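import Cfsg.Agent.H35.CoStd.FrameData
import Cfsg.Agent.H96.LeechCheck
import Cfsg.Agent.H95.MatElt
import Cfsg.Agent.H95.Co1Frame
import Cfsg.Agent.H95.Unique
import Cfsg.Agent.H90.Involutions

/-!
A frame kept up to signs by an element gives a conjugation of that element to a sign change.
-/

set_option autoImplicit false

namespace H35.CoStd

open Cfsg Finset H95

/-- a list as a coordinate function -/
def vecFn (l : List ℤ) : GolayPt → ℤ := fun p => l.getD (H90.idx p).val 0

/-- half of the difference -/
def halfDiff (u l : List ℤ) : GolayPt → ℤ := fun p => (vecFn u p - vecFn l p) / 2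

/-- `v` is sent to itself or to its negative -/
def keeps (p m : ℕ) (l : List ℤ) : Bool :=
  ((List.range 24).all fun i =>
      (if m.testBit (H90.img p i) then -l.getD i 0 else l.getD i 0) == l.getD (H90.img p i) 0) ||
    ((List.range 24).all fun i =>
      (if m.testBit (H90.img p i) then -l.getD i 0 else l.getD i 0) == -l.getD (H90.img p i) 0)

/-- the test on a frame -/
def frameOK (p m : ℕ) (F : List (List ℤ)) : Bool :=
  (List.finRange 24).all fun a =>
    let u := F.getD a.val []
    H96.Check.checkB (vecFn u) && Nat.beq u.length 24 && (dotL u u == 64) &&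
    (List.finRange 24).all (fun b => decide (a = b) || (dotL u (F.getD b.val []) == 0)) &&
    (List.finRange 24).all (fun i =>
      (vecFn (F.getD 0 []) (H90.pt i) - vecFn u (H90.pt i)) % 2 == 0) &&
    H96.Check.checkB (halfDiff (F.getD 0 []) u) && keeps p m u

theorem framesA_ok : (framesA.all fun q => frameOK H90.invAN q.1 q.2) = true := by decide +kernel

theorem framesB_ok : (framesB.all fun q => frameOK H90.invBN q.1 q.2) = true := by decide +kernel

theorem dotInt_vecFn {u v : List ℤ} (hv : v.length = 24) :
    dotInt (vecFn u) (vecFn v) = dotL u v := by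
  have hv' : v = List.ofFn fun i : Fin 24 => v.getD i.val 0 := by
    refine List.ext_getElem (by simp [hv]) fun n h1 h2 => ?_
    rw [List.getElem_ofFn, List.getD_eq_getElem _ _ h1]
  conv_rhs => rw [hv', dotL_ofFn]
  rw [dotInt, ← Equiv.sum_comp H90.ptEquiv (fun q => vecFn u q * vecFn v q)]
  refine sum_congr rfl fun i _ => ?_
  simp [vecFn, H90.idx_pt]

theorem frame_spec {p m : ℕ} {F : List (List ℤ)} (hok : frameOK p m F = true)
    {ρ : Equiv.Perm GolayPt} (hρ : H90.Repr ρ p) {x : Co0}
    (hx : ∀ (v : leechLattice) (q : GolayPt), ((x • v : leechLattice) : GolayPt → ℤ) q =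
      if m.testBit (H90.idx q).val then -(v : GolayPt → ℤ) (ρ.symm q)
      else (v : GolayPt → ℤ) (ρ.symm q)) :
    ∃ (g : Co0) (d : golayCode), g * x * g⁻¹ = signEl d := by
  classical
  have hrow : ∀ a : Fin 24, _ := fun a => List.all_eq_true.mp hok a (List.mem_finRange a)
  simp only [Bool.and_eq_true, beq_iff_eq, List.all_eq_true, Bool.or_eq_true, decide_eq_true_eq,
    List.mem_finRange, forall_const, Nat.beq_eq] at hrow
  let f : Fin 24 → leechLattice := fun a =>
    ⟨vecFn (F.getD a.val []), H96.Check.checkB_spec (hrow a).1.1.1.1.1.1⟩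
  have hlen : ∀ a : Fin 24, (F.getD a.val []).length = 24 := fun a => (hrow a).1.1.1.1.1.2
  have hdot : ∀ a b : Fin 24, ldot (f a) (f b) = if a = b then 64 else 0 := by
    intro a b
    show dotInt _ _ = _
    rw [dotInt_vecFn (hlen b)]
    split
    · next h => subst h; exact (hrow a).1.1.1.1.2
    · next h => exact ((hrow a).1.1.1.2 b).resolve_left h
  have hcls : ∀ a : Fin 24, f 0 - f a ∈ twice leechLattice := by
    intro a
    refine mem_twice.mpr ⟨⟨halfDiff (F.getD 0 []) (F.getD a.val []),
      H96.Check.checkB_spec (hrow a).1.2⟩, Subtype.ext (funext fun q => ?_)⟩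
    have h2 := (hrow a).1.1.2 (H90.idx q)
    rw [H90.pt_idx] at h2
    show vecFn (F.getD 0 []) q - vecFn (F.getD a.val []) q
      = 2 • ((vecFn (F.getD 0 []) q - vecFn (F.getD a.val []) q) / 2)
    rw [two_nsmul]; omega
  have hkeep : ∀ a : Fin 24, x • f a = f a ∨ x • f a = -f a := by
    intro a
    have hk := (hrow a).2
    simp only [keeps, Bool.or_eq_true, List.all_eq_true, List.mem_range, beq_iff_eq] at hk
    have key : ∀ (s : ℤ), (∀ i < 24,
        (if m.testBit (H90.img p i) then -(F.getD a.val []).getD i 0 else (F.getD a.val []).getD i 0)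
          = s * (F.getD a.val []).getD (H90.img p i) 0) →
        ∀ q, ((x • f a : leechLattice) : GolayPt → ℤ) q = s * (f a : GolayPt → ℤ) q := by
      intro s hs q
      obtain ⟨r, rfl⟩ := ρ.surjective q
      rw [hx, Equiv.symm_apply_apply]
      have := hs (H90.idx r).val (H90.idx r).isLt
      rw [← hρ.apply r] at this
      exact this
    rcases hk with hk | hk
    · exact Or.inl (Subtype.ext (funext fun q =>
        (key 1 (fun i hi => by rw [one_mul]; exact hk i hi) q).trans (one_mul _)))
    · exact Or.inr (Subtype.ext (funext fun q =>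
        (key (-1) (fun i hi => by rw [neg_one_mul]; exact hk i hi) q).trans (neg_one_mul _)))
  obtain ⟨g, hg⟩ := to_eight golayUnique (x := f 0) (by rw [hdot, if_pos rfl])
  have hj : ∀ a : Fin 24, ∃ i, g • f a = eight i ∨ g • f a = -eight i := by
    intro a
    refine cross_std (by rw [co0_dot, hdot, if_pos rfl]) ?_
    obtain ⟨z, hz⟩ := mem_twice.mp (hcls a)
    refine mem_twice.mpr ⟨g • z, ?_⟩
    rw [← hg, ← co0_sub, hz, two_nsmul, two_nsmul, co0_add]
  choose q hq using hj
  have qinj : Function.Injective q := by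
    intro a b hab
    by_contra hne
    have h0 := hdot a b
    rw [if_neg hne, ← co0_dot g] at h0
    rcases hq a with h | h <;> rcases hq b with h' | h' <;> rw [h, h', hab] at h0
    all_goals
      simp only [leechLike.neg_left, leechLike.norm_neg, ldot_comm (eight (q b)) (-eight (q b)),
        eight_norm] at h0
      omega
  have qsurj : Function.Surjective q :=
    ((Fintype.bijective_iff_injective_and_card q).mpr ⟨qinj, by simp [GolayPt]⟩).2
  have hmap : MonMap (g * x * g⁻¹) 1 := by
    intro i
    obtain ⟨a, rfl⟩ := qsurj i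
    have e : (g * x * g⁻¹) • (g • f a) = g • f a ∨ (g * x * g⁻¹) • (g • f a) = -(g • f a) := by
      rw [mul_smul, mul_smul, inv_smul_smul]
      rcases hkeep a with h | h <;> rw [h]
      · exact Or.inl rfl
      · exact Or.inr (co0_neg g (f a))
    have e8 : (g * x * g⁻¹) • eight (q a) = eight (q a) ∨
        (g * x * g⁻¹) • eight (q a) = -eight (q a) := by
      rcases hq a with h | h <;> rw [h] at e
      · exact e
      · rw [co0_neg, neg_inj, neg_neg, neg_eq_iff_eq_neg] at e
        exact e
    rcases e8 with h | h <;> rw [h]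
    · exact ⟨8, Or.inl rfl, rfl⟩
    · exact ⟨-8, Or.inr rfl, (Pi.single_neg _ 8).symm⟩
  obtain ⟨c, h1, hc, he⟩ := hmap.exists_mono
  obtain ⟨w, hw, rfl⟩ := id hc
  exact ⟨g, ⟨w, hw⟩, he⟩

end H35.CoStd
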