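import Cfsg.Agent.H85.BrauerSuzuki
import Cfsg.Prelude.Def_Local

/-!
Standard subgroups with a central involution and a cyclic Sylow 2-subgroup in the centraliser:
reduction to the fusion of that involution inside the standard subgroup.
-/

set_option autoImplicit false

namespace H35.StdCyclic

variable {G : Type*} [Group G]

/-- The data used by the reduction. -/
structure Setup (A : Subgroup G) (z : G) : Prop where
  std : Cfsg.IsStandardSubgroup A
  cyc : ∀ R : Sylow 2 ↥(Subgroup.centralizer (A : Set G)),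
    IsCyclic ↥(R : Subgroup ↥(Subgroup.centralizer (A : Set G)))
  mem : z ∈ A
  central : ∀ a ∈ A, a * z = z * a
  order : orderOf z = 2

namespace Setup

variable {A : Subgroup G} {z : G} (S : Setup A z)

include S

theorem mem_centralizer : z ∈ Subgroup.centralizer (A : Set G) :=
  Subgroup.mem_centralizer_iff.mpr fun a ha => S.central a ha

theorem sq : z * z = 1 := by rw [← pow_two, ← S.order, pow_orderOf_eq_one]

theorem ne_one : z ≠ 1 := fun e => by
  have := S.order
  rw [e, orderOf_one] at this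
  omega

variable [Finite G]

theorem eq_of_sq {t : G} (ht : t ∈ Subgroup.centralizer (A : Set G)) (ht2 : t * t = 1) :
    t = 1 ∨ t = z := by
  classical
  by_contra hcon
  simp only [not_or] at hcon
  have : Fact (Nat.Prime 2) := ⟨Nat.prime_two⟩
  have hc : t * z = z * t := ((Subgroup.mem_centralizer_iff.mp ht) z S.mem).symm
  let T : ↥(Subgroup.centralizer (A : Set G)) := ⟨t, ht⟩
  let Z : ↥(Subgroup.centralizer (A : Set G)) := ⟨z, S.mem_centralizer⟩
  have hTZ : Commute T Z := Subtype.ext hc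
  let P : Subgroup ↥(Subgroup.centralizer (A : Set G)) :=
    { carrier := {1, T, Z, T * Z}
      one_mem' := by simp
      mul_mem' := fun {a b} ha hb => by
        have hT2 : T * T = 1 := Subtype.ext ht2
        have hZ2 : Z * Z = 1 := Subtype.ext S.sq
        have h1 : T * (T * Z) = Z := by rw [← mul_assoc, hT2, one_mul]
        have h2 : Z * (T * Z) = T := by rw [hTZ.eq, ← mul_assoc, hZ2, one_mul]
        have h3 : T * Z * T = Z := by rw [hTZ.eq, mul_assoc, hT2, mul_one]
        have h4 : T * Z * Z = T := by rw [mul_assoc, hZ2, mul_one]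
        have h5 : T * Z * (T * Z) = 1 := by rw [← mul_assoc, h3, hZ2]
        simp only [Set.mem_insert_iff, Set.mem_singleton_iff] at ha hb ⊢
        rcases ha with rfl | rfl | rfl | rfl <;> rcases hb with rfl | rfl | rfl | rfl <;>
          simp [hT2, hZ2, h1, h2, h3, h4, h5, ← hTZ.eq]
      inv_mem' := fun {a} ha => by
        have hT2 : T⁻¹ = T := inv_eq_of_mul_eq_one_right (Subtype.ext ht2)
        have hZ2 : Z⁻¹ = Z := inv_eq_of_mul_eq_one_right (Subtype.ext S.sq)
        simp only [Set.mem_insert_iff, Set.mem_singleton_iff] at ha ⊢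
        rcases ha with rfl | rfl | rfl | rfl <;> simp [hT2, hZ2, ← hTZ.eq] }
  have hP : IsPGroup 2 P := by
    rintro ⟨a, ha⟩
    refine ⟨1, Subtype.ext ?_⟩
    show a ^ (2 ^ 1) = 1
    rw [pow_one, pow_two]
    have hT2 : T * T = 1 := Subtype.ext ht2
    have hZ2 : Z * Z = 1 := Subtype.ext S.sq
    rcases ha with rfl | rfl | rfl | rfl
    · exact one_mul 1
    · exact hT2
    · exact hZ2
    · rw [← pow_two, hTZ.mul_pow, pow_two, pow_two, hT2, hZ2, one_mul]
  obtain ⟨R, hR⟩ := hP.exists_le_sylow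
  have := S.cyc R
  let _ : Fintype ↥(R : Subgroup ↥(Subgroup.centralizer (A : Set G))) := Fintype.ofFinite _
  have hle := IsCyclic.card_pow_eq_one_le (α := ↥(R : Subgroup ↥(Subgroup.centralizer (A : Set G)))) (n := 2) two_pos
  have hT : T ∈ P := by simp [P]
  have hZ : Z ∈ P := by simp [P]
  have hsub : ({(1 : ↥(R : Subgroup ↥(Subgroup.centralizer (A : Set G)))), ⟨T, hR hT⟩, ⟨Z, hR hZ⟩} : Finset ↥(R : Subgroup ↥(Subgroup.centralizer (A : Set G)))) ⊆
      Finset.univ.filter fun a => a ^ 2 = 1 := by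
    intro a ha
    simp only [Finset.mem_insert, Finset.mem_singleton] at ha
    simp only [Finset.mem_filter, Finset.mem_univ, true_and, pow_two]
    rcases ha with rfl | rfl | rfl
    · exact one_mul 1
    · exact Subtype.ext (Subtype.ext ht2)
    · exact Subtype.ext (Subtype.ext S.sq)
  have h3 := (Finset.card_le_card hsub).trans hle
  have n1 : (1 : ↥(R : Subgroup ↥(Subgroup.centralizer (A : Set G)))) ≠ ⟨T, hR hT⟩ := fun e =>
    hcon.1 (congrArg (fun x : ↥(R : Subgroup ↥(Subgroup.centralizer (A : Set G))) => x.1.1) e).symm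
  have n2 : (1 : ↥(R : Subgroup ↥(Subgroup.centralizer (A : Set G)))) ≠ ⟨Z, hR hZ⟩ := fun e =>
    S.ne_one (congrArg (fun x : ↥(R : Subgroup ↥(Subgroup.centralizer (A : Set G))) => x.1.1) e).symm
  have n3 : (⟨T, hR hT⟩ : ↥(R : Subgroup ↥(Subgroup.centralizer (A : Set G)))) ≠ ⟨Z, hR hZ⟩ := fun e =>
    hcon.2 (congrArg (fun x : ↥(R : Subgroup ↥(Subgroup.centralizer (A : Set G))) => x.1.1) e)
  rw [Finset.card_insert_of_notMem (by simp [n1, n2]), Finset.card_insert_of_notMem (by simp [n3]),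
    Finset.card_singleton] at h3
  omega

theorem mem_normalizer_iff {g : G} :
    g ∈ Subgroup.normalizer (A : Set G) ↔ g * z = z * g := by
  constructor
  · intro hg
    have hC : g ∈ Subgroup.normalizer (Subgroup.centralizer (A : Set G) : Set G) :=
      S.std.2.2.2 ▸ hg
    have hm : g * z * g⁻¹ ∈ Subgroup.centralizer (A : Set G) :=
      (Subgroup.mem_normalizer_iff.mp hC z).mp S.mem_centralizer
    rcases S.eq_of_sq hm (by rw [conj_mul, S.sq]; group) with e | e
    · exact absurd (conj_eq_one_iff.mp e) S.ne_one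
    · exact mul_inv_eq_iff_eq_mul.mp e
  · intro hg
    by_contra hn
    rw [S.std.2.2.2] at hn
    have hodd := S.std.2.1.2 g hn
    have hz1 : z ∈ (Subgroup.centralizer (A : Set G)).map (MulAut.conj g).toMonoidHom :=
      ⟨z, S.mem_centralizer, by
        show g * z * g⁻¹ = z
        rw [hg, mul_inv_cancel_right]⟩
    have h2 : (2 : ℕ) ∣ Nat.card ↥(Subgroup.centralizer (A : Set G) ⊓
        (Subgroup.centralizer (A : Set G)).map (MulAut.conj g).toMonoidHom) := by
      rw [← S.order]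
      exact Subgroup.orderOf_dvd_natCard _ ⟨S.mem_centralizer, hz1⟩
    exact Nat.not_even_iff_odd.mpr hodd (even_iff_two_dvd.mpr h2)

theorem exists_decomp (hinner : ∀ g ∈ Subgroup.normalizer (A : Set G),
      ∃ a ∈ A, a⁻¹ * g ∈ Subgroup.centralizer (A : Set G))
    {g : G} (hg : g * z = z * g) :
    ∃ a ∈ A, ∃ c ∈ Subgroup.centralizer (A : Set G), g = a * c := by
  obtain ⟨a, ha, hc⟩ := hinner g (S.mem_normalizer_iff.mpr hg)
  exact ⟨a, ha, _, hc, (mul_inv_cancel_left a g).symm⟩

/-- A conjugate of `z` commuting with `z` lies in `A`. -/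
theorem conj_mem (hinner : ∀ g ∈ Subgroup.normalizer (A : Set G),
      ∃ a ∈ A, a⁻¹ * g ∈ Subgroup.centralizer (A : Set G))
    (hAC : ∀ x ∈ A, x ∈ Subgroup.centralizer (A : Set G) → x = 1 ∨ x = z)
    {g : G} (hg : Commute z (g * z * g⁻¹)) : g * z * g⁻¹ ∈ A := by
  classical
  have : Fact (Nat.Prime 2) := ⟨Nat.prime_two⟩
  set C := Subgroup.centralizer (A : Set G) with hC
  have hcomm : ∀ a ∈ A, ∀ c ∈ C, Commute a c := fun a ha c hc =>
    Subgroup.mem_centralizer_iff.mp hc a ha
  -- a 2-power kills every such centraliser part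
  have hpart : ∀ (a c : G) (j : ℕ), a ∈ A → c ∈ C → (a * c) ^ (2 ^ j) = 1 →
      c ^ (2 ^ (j + 1)) = 1 := by
    intro a c j ha hc h
    rw [(hcomm a ha c hc).mul_pow] at h
    have hA : c ^ (2 ^ j) ∈ A := by
      rw [eq_inv_of_mul_eq_one_right h]
      exact A.inv_mem (A.pow_mem ha _)
    rw [pow_succ, pow_mul, pow_two]
    rcases hAC _ hA (C.pow_mem hc _) with e | e <;> rw [e]
    · exact one_mul 1
    · exact S.sq
  have hsylow : ∀ (c : G) (j : ℕ) (hc : c ∈ C), c ^ (2 ^ j) = 1 →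
      ∃ R : Sylow 2 C, (⟨c, hc⟩ : C) ∈ (R : Subgroup C) := by
    intro c j hc h
    have hp : IsPGroup 2 (Subgroup.zpowers (⟨c, hc⟩ : C)) := by
      rintro ⟨x, k, rfl⟩
      refine ⟨j, Subtype.ext (Subtype.ext ?_)⟩
      show (c ^ k) ^ (2 ^ j) = 1
      rw [← zpow_natCast (c ^ k), ← zpow_mul, mul_comm, zpow_mul, zpow_natCast, h, one_zpow]
    obtain ⟨R, hR⟩ := hp.exists_le_sylow
    exact ⟨R, hR (Subgroup.mem_zpowers _)⟩
  set z' := g⁻¹ * z * g with hz'
  have hz'z : z' * z = z * z' := by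
    have h : z * (g * z * g⁻¹) = g * z * g⁻¹ * z := hg.eq
    have h' := congrArg (fun x => g⁻¹ * x * g) h
    rw [hz']
    simpa [mul_assoc] using h'
  obtain ⟨a, ha, c, hc, hac⟩ := S.exists_decomp hinner hz'z
  obtain ⟨R, hR⟩ := hsylow c (1 + 1) hc (hpart a c 1 ha hc (by
    rw [← hac, pow_one, pow_two, hz', show g⁻¹ * z * g * (g⁻¹ * z * g) = g⁻¹ * (z * z) * g by group,
      S.sq]
    group))
  have := S.cyc R
  obtain ⟨r, hr⟩ := IsCyclic.exists_generator (α := ↥(R : Subgroup C))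
  set r0 : G := r.1.1 with hr0
  have hr0C : r0 ∈ C := r.1.2
  -- `z` centralises the conjugate of `r0`
  have hz'r : z' * r0 = r0 * z' := by
    obtain ⟨i, hi⟩ := hr ⟨⟨c, hc⟩, hR⟩
    have hci : c = r0 ^ i := (congrArg (fun x : ↥(R : Subgroup C) => x.1.1) hi).symm
    rw [hac]
    exact ((hcomm a ha r0 hr0C).mul_left (hci ▸ (Commute.refl r0).zpow_left i)).eq
  have hgr : g * r0 * g⁻¹ * z = z * (g * r0 * g⁻¹) := by
    have h' := congrArg (fun x => g * x * g⁻¹) hz'r
    simp only [hz'] at h'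
    simpa [mul_assoc] using h'.symm
  obtain ⟨b, hb, d, hd, hbd⟩ := S.exists_decomp hinner hgr
  obtain ⟨k, hk⟩ := IsPGroup.iff_card.mp R.isPGroup'
  have hcardR : ∀ R' : Sylow 2 C, Nat.card (R' : Subgroup C) = 2 ^ k := fun R' => by
    rw [← hk, Sylow.card_eq_multiplicity, Sylow.card_eq_multiplicity]
  -- `z` is the involution of `R`
  have h2C : (2 : ℕ) ∣ Nat.card C := S.order ▸ Subgroup.orderOf_dvd_natCard C S.mem_centralizer
  have h2R : (2 : ℕ) ∣ Nat.card (R : Subgroup C) := R.dvd_card_of_dvd_card h2C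
  obtain ⟨w, hw⟩ := exists_prime_orderOf_dvd_card' 2 h2R
  have hwz : w.1.1 = z := by
    have hw2 : w.1.1 * w.1.1 = 1 := by
      have := pow_orderOf_eq_one w
      rw [hw, pow_two] at this
      exact congrArg (fun x : ↥(R : Subgroup C) => x.1.1) this
    refine (S.eq_of_sq w.1.2 hw2).resolve_left fun e => ?_
    have : w = 1 := Subtype.ext (Subtype.ext e)
    rw [this, orderOf_one] at hw
    omega
  have hk1 : 1 ≤ k := Nat.one_le_iff_ne_zero.mpr fun e => by rw [hk, e] at h2R; norm_num at h2R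
  have hord : orderOf r = 2 ^ k := by rw [orderOf_eq_card_of_forall_mem_zpowers hr, hk]
  have hzr : z = r0 ^ (2 ^ (k - 1)) := by
    have e2 : r ^ (2 ^ (k - 1)) * r ^ (2 ^ (k - 1)) = 1 := by
      rw [← pow_add, ← two_mul, ← pow_succ', Nat.sub_add_cancel hk1, ← hord, pow_orderOf_eq_one]
    refine ((S.eq_of_sq (C.pow_mem hr0C _)
      (congrArg (fun x : ↥(R : Subgroup C) => x.1.1) e2)).resolve_left fun e => ?_).symm
    have h1 : r ^ (2 ^ (k - 1)) = 1 := Subtype.ext (Subtype.ext e)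
    have hdvd := orderOf_dvd_of_pow_eq_one h1
    rw [hord, Nat.pow_dvd_pow_iff_le_right one_lt_two] at hdvd
    omega
  obtain ⟨R', hR'⟩ := hsylow d (k + 1) hd (hpart b d k hb hd (by
    rw [← hbd, conj_pow]
    have : r0 ^ (2 ^ k) = 1 := by
      have := pow_orderOf_eq_one r
      rw [hord] at this
      exact congrArg (fun x : ↥(R : Subgroup C) => x.1.1) this
    rw [this, mul_one, mul_inv_cancel]))
  have hdk : d ^ (2 ^ k) = 1 := by
    have := pow_card_eq_one' (x := (⟨⟨d, hd⟩, hR'⟩ : ↥(R' : Subgroup C)))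
    rw [hcardR] at this
    exact congrArg (fun x : ↥(R' : Subgroup C) => x.1.1) this
  have hdA : d ^ (2 ^ (k - 1)) ∈ A := by
    rcases S.eq_of_sq (C.pow_mem hd _) (by
      rw [← pow_add, ← two_mul, ← pow_succ', Nat.sub_add_cancel hk1, hdk]) with e | e <;> rw [e]
    · exact A.one_mem
    · exact S.mem
  rw [hzr, ← conj_pow, hbd, (hcomm b hb d hd).mul_pow]
  exact A.mul_mem (A.pow_mem hb _) hdA

/-- If `z` has no other conjugate in `A` then `A` is normal. -/
theorem normal_of_fusion (hO : Cfsg.pPrimeCore 2 G = ⊥)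
    (hinner : ∀ g ∈ Subgroup.normalizer (A : Set G),
      ∃ a ∈ A, a⁻¹ * g ∈ Subgroup.centralizer (A : Set G))
    (hAC : ∀ x ∈ A, x ∈ Subgroup.centralizer (A : Set G) → x = 1 ∨ x = z)
    (hfus : ∀ g : G, g * z * g⁻¹ ∈ A → g * z * g⁻¹ = z) : A.Normal := by
  have hiso : Cfsg.IsIsolatedInvolution z :=
    ⟨S.order, fun g hg => hfus g (S.conj_mem hinner hAC hg)⟩
  refine Subgroup.normalizer_eq_top_iff.mp (eq_top_iff.mpr fun g _ => ?_)
  rw [S.mem_normalizer_iff]
  have h := H85.zStar hiso g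
  rw [hO, Subgroup.mem_bot, mul_inv_eq_one, mul_inv_eq_iff_eq_mul] at h
  exact h.symm

end Setup

end H35.StdCyclic
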