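import Cfsg.Agent.H35.CoStd.Frame

/-!
Every involution of the lattice group is conjugate to a sign change.
-/

set_option autoImplicit false

namespace H35.CoStd

open Cfsg Finset H95

theorem natCard_stdGrp : Nat.card stdGrp = 4096 * 244823040 := by
  rw [← H90.natCard_M24, ← card_fixesStd]
  exact Nat.card_congr (Equiv.subtypeEquivRight fun g => fixesStd_iff.symm)

theorem index_stdGrp : stdGrp.index = 8292375 := by
  have h := stdGrp.card_mul_index
  rw [natCard_stdGrp, card_co0 golayUnique] at h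
  omega

/-- each fixed word is carried to a representative -/
def coverOK (p : ℕ) (reps lifts : List ℕ) : Bool :=
  (List.range 4096).all fun n =>
    !(Nat.beq (H90.permMask p (H90.encode n)) (H90.encode n)) || lifts.any fun k =>
      decide (k < 4096) && reps.contains
        (H90.encode n ^^^ (H90.encode k ^^^ H90.permMask p (H90.encode k)))

theorem coverA : coverOK H90.invAN (framesA.map Prod.fst) liftA = true := by decide +kernel

theorem coverB : coverOK H90.invBN (framesB.map Prod.fst) liftB = true := by decide +kernel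

theorem wordOf_permMask {σ : Equiv.Perm GolayPt} {p : ℕ} (h : H90.Repr σ p) (m : ℕ) (i : GolayPt) :
    H90.wordOf (H90.permMask p m) i = H90.wordOf m (σ.symm i) := by
  have e := H90.setOf'_permMask h m
  have e' : i ∈ H90.setOf' (H90.permMask p m) ↔ σ.symm i ∈ H90.setOf' m := by
    rw [e]
    simp only [Finset.mem_image]
    constructor
    · rintro ⟨j, hj, rfl⟩; simpa using hj
    · exact fun h' => ⟨σ.symm i, h', by simp⟩
  simp only [H90.mem_setOf'] at e'
  simp only [H90.wordOf, e']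

/-- the code word of an index -/
noncomputable def cw (n : ℕ) : golayCode := ⟨H90.wordOf (H90.encode n), H90.wordOf_encode_mem n⟩

theorem exists_cw (d : golayCode) : ∃ n < 4096, d = cw n := by
  obtain ⟨n, hn, he⟩ := H90.mem_golayCode_iff.mp d.2
  exact ⟨n, hn, Subtype.ext he⟩

theorem conj_sign_of_repr {ρ : Equiv.Perm GolayPt} (hρ : ρ ∈ M24) {p : ℕ} (hr : H90.Repr ρ p)
    {Fs : List (ℕ × List (List ℤ))} {lifts : List ℕ}
    (hF : (Fs.all fun q => frameOK p q.1 q.2) = true)
    (hcov : coverOK p (Fs.map Prod.fst) lifts = true) (d : golayCode)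
    (hd : ∀ i, d.1 (ρ.symm i) = d.1 i) :
    ∃ (g : Co0) (e : golayCode), g * (signEl d * permHom ⟨ρ, hρ⟩) * g⁻¹ = signEl e := by
  classical
  obtain ⟨n, hn, rfl⟩ := exists_cw d
  have hfix : Nat.beq (H90.permMask p (H90.encode n)) (H90.encode n) = true := by
    rw [Nat.beq_eq]
    refine H90.wordOf_injOn (H90.permMask_lt hr _) (H90.encode_lt hn) (funext fun i => ?_)
    rw [wordOf_permMask hr]
    exact hd i
  have hc := List.all_eq_true.mp hcov n (List.mem_range.mpr hn)
  rw [hfix] at hc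
  simp only [Bool.not_true, Bool.false_or, List.any_eq_true, Bool.and_eq_true, decide_eq_true_eq,
    List.contains_iff_mem, List.mem_map] at hc
  obtain ⟨k, -, hk, ⟨m, F⟩, hq, hm⟩ := hc
  simp only at hm
  have hok := List.all_eq_true.mp hF _ hq
  simp only at hok
  set x := signEl (cw k) * (signEl (cw n) * permHom ⟨ρ, hρ⟩) * (signEl (cw k))⁻¹ with hxdef
  have hx : ∀ (v : leechLattice) (q : GolayPt), ((x • v : leechLattice) : GolayPt → ℤ) q =
      if m.testBit (H90.idx q).val then -(v : GolayPt → ℤ) (ρ.symm q)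
      else (v : GolayPt → ℤ) (ρ.symm q) := by
    intro v q
    have hbit : m.testBit (H90.idx q).val = true ↔
        H90.wordOf (H90.encode n) q + H90.wordOf (H90.encode k) q
          + H90.wordOf (H90.encode k) (ρ.symm q) ≠ 0 := by
      have : H90.wordOf m q = H90.wordOf (H90.encode n) q + H90.wordOf (H90.encode k) q
          + H90.wordOf (H90.encode k) (ρ.symm q) := by
        rw [hm, H90.wordOf_xor, H90.wordOf_xor, Pi.add_apply, Pi.add_apply, wordOf_permMask hr]
        abel
      rw [← this]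
      cases hb : m.testBit (H90.idx q).val <;> simp [H90.wordOf, hb]
    rw [hxdef, inv_eq_of_mul_eq_one_right (signEl_sq _), mul_smul, mul_smul, mul_smul, signEl_coord,
      signEl_coord, permHom_apply, signEl_coord]
    simp only [cw, hbit]
    rcases H95.zmod2_cases (H90.wordOf (H90.encode n) q) with a | a <;>
      rcases H95.zmod2_cases (H90.wordOf (H90.encode k) q) with b | b <;>
      rcases H95.zmod2_cases (H90.wordOf (H90.encode k) (ρ.symm q)) with c | c <;>
      simp [a, b, c, show (1 : ZMod 2) + 1 = 0 from rfl]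
  obtain ⟨g, e, hge⟩ := frame_spec hok hr hx
  exact ⟨g * signEl (cw k), e, by rw [← hge, hxdef]; group⟩

/-- **Every involution is conjugate to a sign change.** -/
theorem exists_conj_signEl {x : Co0} (hx : x * x = 1) :
    ∃ (g : Co0) (d : golayCode), g * x * g⁻¹ = signEl d := by
  classical
  have : Fact (Nat.Prime 2) := ⟨Nat.prime_two⟩
  have : Finite Co0 := co0_finite
  obtain ⟨y, hy⟩ : ∃ y : Co0, y * x * y⁻¹ ∈ stdGrp := by
    have hp : IsPGroup 2 (Subgroup.zpowers x) := by
      rintro ⟨a, k, rfl⟩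
      refine ⟨1, Subtype.ext ?_⟩
      show (x ^ k) ^ (2 ^ 1) = 1
      rw [pow_one, pow_two, ← (Commute.refl x).mul_zpow, hx, one_zpow]
    obtain ⟨q, hq⟩ := hp.nonempty_fixed_point_of_prime_not_dvd_card (Co0 ⧸ stdGrp)
      (by rw [← Subgroup.index_eq_card, index_stdGrp]; norm_num)
    obtain ⟨g, rfl⟩ := QuotientGroup.mk_surjective q
    have h := hq ⟨x, Subgroup.mem_zpowers x⟩
    refine ⟨g⁻¹, ?_⟩
    have h' : ((x * g : Co0) : Co0 ⧸ stdGrp) = (g : Co0 ⧸ stdGrp) := h
    rw [QuotientGroup.eq] at h'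
    simpa [mul_assoc] using stdGrp.inv_mem h'
  set x' := y * x * y⁻¹ with hx'def
  have hx' : x' * x' = 1 := by rw [hx'def, conj_mul, hx]; group
  suffices h : ∃ (g : Co0) (d : golayCode), g * x' * g⁻¹ = signEl d by
    obtain ⟨g, d, hgd⟩ := h
    exact ⟨g * y, d, by rw [← hgd, hx'def]; group⟩
  obtain ⟨σ, hσ⟩ := hy
  obtain ⟨c, hσm, hc, he⟩ := hσ.exists_mono
  have hσσ : σ * σ = 1 := (hσ.mul hσ).unique (by rw [hx']; exact MonMap.one)
  by_cases hσ1 : σ = 1
  · subst hσ1
    obtain ⟨w, hw, rfl⟩ := id hc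
    exact ⟨1, ⟨w, hw⟩, by rw [one_mul, inv_one, mul_one]; exact he⟩
  · obtain ⟨k, hk, ρ, hρ, hkρ, hcls⟩ :=
      H90.involution_class hσm (orderOf_eq_prime (by rw [pow_two, hσσ]) hσ1)
    set x'' := (permHom ⟨k, hk⟩)⁻¹ * x' * permHom ⟨k, hk⟩ with hx''def
    have hρ' : MonMap x'' ρ := by
      have := ((monMap_permHom ⟨k, hk⟩).inv.mul hσ).mul (monMap_permHom ⟨k, hk⟩)
      rwa [← hkρ, show k⁻¹ * (k * ρ * k⁻¹) * k = ρ by group] at this
    obtain ⟨c', hρm, hc', he'⟩ := hρ'.exists_mono
    obtain ⟨d, hd⟩ := mono_eq_sign_mul hρm hc'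
    have hx''2 : x'' * x'' = 1 := by
      rw [hx''def, show (permHom ⟨k, hk⟩)⁻¹ * x' * permHom ⟨k, hk⟩
        * ((permHom ⟨k, hk⟩)⁻¹ * x' * permHom ⟨k, hk⟩)
        = (permHom ⟨k, hk⟩)⁻¹ * (x' * x') * permHom ⟨k, hk⟩ by group, hx']
      group
    have hρρ : ρ * ρ = 1 := (hρ'.mul hρ').unique (by rw [hx''2]; exact MonMap.one)
    have hfix : ∀ i, d.1 (ρ.symm i) = d.1 i := by
      intro i
      have hE : x'' = signEl d * permHom ⟨ρ, hρm⟩ := he'.trans hd
      have hpp : permHom ⟨ρ, hρm⟩ * permHom ⟨ρ, hρm⟩ = 1 := by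
        rw [← map_mul, show (⟨ρ, hρm⟩ : M24) * ⟨ρ, hρm⟩ = 1 from Subtype.ext hρρ, map_one]
      have h1 : signEl (d + ⟨fun i => d.1 (ρ.symm i), perm_symm_mem_code hρm d.2⟩) = 1 := by
        rw [signEl_add, ← signEl_conj ⟨ρ, hρm⟩ d, inv_eq_of_mul_eq_one_right hpp,
          ← hx''2, hE]
        group
      have h2 := congrArg (fun g : Co0 => ((g • eight i : leechLattice) : GolayPt → ℤ) i) h1
      simp only [signEl_coord, one_smul, eight, Pi.single_eq_same, Submodule.coe_add,
        Pi.add_apply] at h2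
      rcases H95.zmod2_cases (d.1 i) with a | a <;> rcases H95.zmod2_cases (d.1 (ρ.symm i)) with b | b <;>
        simp [a, b] at h2 ⊢
    obtain ⟨g, e, hge⟩ : ∃ (g : Co0) (e : golayCode),
        g * (signEl d * permHom ⟨ρ, hρm⟩) * g⁻¹ = signEl e := by
      rcases hcls with ⟨hr, -⟩ | ⟨hr, -⟩
      · exact conj_sign_of_repr hρm hr framesA_ok coverA d hfix
      · exact conj_sign_of_repr hρm hr framesB_ok coverB d hfix
    refine ⟨g * (permHom ⟨k, hk⟩)⁻¹, e, ?_⟩
    rw [← hge, ← hd, ← he', hx''def]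
    group

end H35.CoStd
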