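import Cfsg.Agent.H35.CoStd.Rank
import Cfsg.Agent.H95.CodeExtend

/-!
A linear group on the code with point stabiliser the code group fixes the all-ones word.
-/

set_option autoImplicit false

namespace H35.CoStd

open Cfsg Finset

/-- the action of the code group on words -/
def permC : M24 →* Equiv.Perm golayCode where
  toFun σ :=
    { toFun := fun d => ⟨fun i => d.1 (σ.1.symm i), H95.perm_symm_mem_code σ.2 d.2⟩
      invFun := fun d => ⟨fun i => d.1 (σ.1 i), H95.perm_mem_code σ.2 d.2⟩
      left_inv := fun d => Subtype.ext (funext fun i => by simp)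
      right_inv := fun d => Subtype.ext (funext fun i => by simp) }
  map_one' := Equiv.ext fun _ => rfl
  map_mul' := fun _ _ => Equiv.ext fun _ => rfl

theorem permC_apply (σ : M24) (d : golayCode) (i : GolayPt) :
    (permC σ d).1 i = d.1 (σ.1.symm i) := rfl

theorem perm_apply_inv {α : Type*} (σ : Equiv.Perm α) (x : α) : σ (σ⁻¹ x) = x :=
  σ.apply_symm_apply x

theorem perm_inv_apply {α : Type*} (σ : Equiv.Perm α) (x : α) : σ⁻¹ (σ x) = x :=
  σ.symm_apply_apply x

/-- the all-ones word -/
def oneWord : golayCode := ⟨1, H95.one_mem_code⟩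

theorem permC_one (σ : M24) : permC σ oneWord = oneWord := rfl

theorem permC_injective : Function.Injective permC := by
  intro σ τ h
  refine Subtype.ext (Equiv.ext fun i => ?_)
  by_contra hne
  obtain ⟨d, hd, hdT⟩ := H95.exists_code_small ({σ.1 i, τ.1 i} : Finset GolayPt)
    (le_trans Finset.card_le_two (by norm_num)) (Pi.single (σ.1 i) 1)
  have := congrArg (fun w : golayCode => w.1 (σ.1 i)) (Equiv.congr_fun h
    (permC τ⁻¹ ⟨d, hd⟩))
  simp only [permC_apply] at this
  rw [Equiv.symm_apply_apply] at this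
  simp only [InvMemClass.coe_inv, ← Equiv.Perm.inv_def, inv_inv] at this
  rw [perm_apply_inv, hdT (τ.1 i) (by simp), hdT (σ.1 i) (by simp), Pi.single_eq_same,
    Pi.single_eq_of_ne (Ne.symm hne)] at this
  exact zero_ne_one this

/-- the prime orders that cannot act -/
def noActOK (p : ℕ) : Bool := (List.range 12).all fun k => !(Nat.beq (2 ^ k % p) (4096 % p))

theorem noAct19 : noActOK 19 = true := by decide +kernel
theorem noAct859 : noActOK 859 = true := by decide +kernel
theorem noAct139 : noActOK 139 = true := by decide +kernel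

theorem not_dvd_of_linear {p : ℕ} [hp : Fact p.Prime] (hok : noActOK p = true)
    (L : Subgroup (Equiv.Perm golayCode)) (hlin : ∀ T ∈ L, ∀ a b, T (a + b) = T a + T b) :
    ¬ p ∣ Nat.card L := by
  classical
  intro hdvd
  obtain ⟨T, hT⟩ := exists_prime_orderOf_dvd_card' p hdvd
  let H : Subgroup (Equiv.Perm golayCode) := Subgroup.zpowers T.1
  have hHp : IsPGroup p H := IsPGroup.of_card (n := 1)
    (by rw [Nat.card_zpowers, Subgroup.orderOf_coe, hT, pow_one])
  let F : AddSubgroup golayCode :=
    { carrier := {d | T.1 d = d}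
      zero_mem' := by
        have := hlin _ T.2 0 0
        rw [add_zero] at this
        exact left_eq_add.mp this
      add_mem' := fun {a b} ha hb => by
        show T.1 (a + b) = a + b
        rw [hlin _ T.2, ha, hb]
      neg_mem' := fun {a} ha => by
        show T.1 (-a) = -a
        have e : -a = a := Subtype.ext (funext fun i => by
          show -a.1 i = a.1 i
          rcases H95.zmod2_cases (a.1 i) with h | h <;> rw [h] <;> rfl)
        rw [e]; exact ha }
  have hfix : MulAction.fixedPoints H golayCode = (F : Set golayCode) := by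
    ext d
    refine ⟨fun h => h ⟨T.1, Subgroup.mem_zpowers _⟩, fun h => ?_⟩
    rintro ⟨_, k, rfl⟩
    exact (Equiv.Perm.zpow_apply_eq_self_of_apply_eq_self h k)
  have hmod := hHp.card_modEq_card_fixedPoints golayCode
  have h4096 : Nat.card golayCode = 2 ^ 12 := H90.natCard_golayCode
  obtain ⟨k, hk, hk'⟩ := (Nat.dvd_prime_pow Nat.prime_two).mp (h4096 ▸ F.card_addSubgroup_dvd_card)
  have hlt : k < 12 := by
    by_contra hge
    have e : k = 12 := by omega
    have htop : F = ⊤ := AddSubgroup.eq_top_of_card_eq _ (by rw [hk', e, h4096])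
    have h1 : T = 1 := Subtype.ext (Equiv.ext fun d => (htop ▸ AddSubgroup.mem_top d : d ∈ F))
    rw [h1, orderOf_one] at hT
    exact hp.out.one_lt.ne hT
  have := List.all_eq_true.mp hok k (List.mem_range.mpr hlt)
  rw [hfix] at hmod
  change _ ≡ Nat.card F [MOD p] at hmod
  rw [h4096, hk'] at hmod
  simp only [Bool.not_eq_true', ← Bool.not_eq_true, Nat.beq_eq] at this
  exact this (hmod.symm.trans rfl)

/-- weights allowed in a union of classes -/
def sel (s : Bool × Bool × Bool) (w : ℕ) : Bool :=
  Nat.beq w 24 || (s.1 && Nat.beq w 8) || (s.2.1 && Nat.beq w 12) || (s.2.2 && Nat.beq w 16)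

/-- the fixed words among those of the allowed weights -/
def selCount (s : Bool × Bool × Bool) : ℕ :=
  ((Finset.range 4096).filter fun n => sel s (H90.popc (H90.encode n)) = true).card

/-- the count for the fixed words of the representative fixing an octad -/
def selFix (s : Bool × Bool × Bool) : ℕ :=
  ((Finset.range 4096).filter fun n => (sel s (H90.popc (H90.encode n)) &&
    Nat.beq (H90.permMask H90.invAN (H90.encode n)) (H90.encode n)) = true).card

theorem selCount_values :
    (selCount (true, false, false) = 760 ∧ selCount (false, false, true) = 760 ∧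
      selCount (false, true, false) = 2577 ∧ selCount (true, true, false) = 3336 ∧
      selCount (false, true, true) = 3336) ∧
    (selCount (true, false, true) = 1519 ∧ selFix (true, false, true) = 143) ∧
    (selCount (true, true, true) = 4095 ∧ selFix (true, true, true) = 255) := by
  decide +kernel

theorem ncard_codeSet (P : ℕ → Bool) (Q : Set golayCode)
    (h : ∀ n < 4096, (⟨_, H90.wordOf_encode_mem n⟩ : golayCode) ∈ Q ↔ P n = true) :
    Q.ncard = ((Finset.range 4096).filter fun n => P n = true).card := by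
  classical
  rw [← Nat.card_coe_set_eq, ← Nat.card_eq_finsetCard]
  set S := (Finset.range 4096).filter fun n => P n = true with hS
  have hmem : ∀ n, n ∈ S ↔ n < 4096 ∧ P n = true := fun n => by
    rw [hS, Finset.mem_filter, Finset.mem_range]
  refine (Nat.card_eq_of_bijective (fun n : S => (⟨⟨_, H90.wordOf_encode_mem n.1⟩,
    (h _ ((hmem _).mp n.2).1).mpr ((hmem _).mp n.2).2⟩ : Q)) ⟨?_, ?_⟩).symm
  · intro a b e
    refine Subtype.ext (H90.encode_injOn ((hmem _).mp a.2).1 ((hmem _).mp b.2).1 ?_)
    exact H90.wordOf_injOn (H90.encode_lt ((hmem _).mp a.2).1) (H90.encode_lt ((hmem _).mp b.2).1)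
      (congrArg (fun d : Q => d.1.1) e)
  · rintro ⟨⟨w, hw⟩, hd⟩
    obtain ⟨n, hn, rfl⟩ := H90.mem_golayCode_iff.mp hw
    exact ⟨⟨n, (hmem n).mpr ⟨hn, (h n hn).mp hd⟩⟩, rfl⟩

theorem weight_transitive {d e : golayCode} {w : ℕ} (hw : w = 8 ∨ w = 12 ∨ w = 16)
    (hd : hammingNorm d.1 = w) (he : hammingNorm e.1 = w) : ∃ σ : M24, permC σ d = e := by
  classical
  have key : ∀ (a b : golayCode) (σ : Equiv.Perm GolayPt) (hσ : σ ∈ M24),
      (support₂ a.1).image σ = support₂ b.1 → permC ⟨σ, hσ⟩ a = b := by
    intro a b σ hσ h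
    refine Subtype.ext (funext fun i => ?_)
    rw [permC_apply]
    have e : i ∈ (support₂ a.1).image σ ↔ i ∈ support₂ b.1 := by rw [h]
    simp only [Finset.mem_image, support₂, Finset.mem_filter, Finset.mem_univ, true_and] at e
    have e' : a.1 (σ.symm i) ≠ 0 ↔ b.1 i ≠ 0 := by
      rw [← e]
      exact ⟨fun h' => ⟨_, h', σ.apply_symm_apply i⟩, fun ⟨j, hj, hji⟩ => by
        rw [← hji, Equiv.symm_apply_apply]; exact hj⟩
    rcases H95.zmod2_cases (a.1 (σ.symm i)) with p | p <;> rcases H95.zmod2_cases (b.1 i) with q | q <;>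
      simp_all
  have hsupp : ∀ (a : golayCode) (k : ℕ), hammingNorm a.1 = k →
      support₂ a.1 ∈ wordsOfWeight (golayCode : Set (GolayPt → ZMod 2)) k :=
    fun a k h => ⟨⟨a.1, a.2, rfl⟩, by rw [← h]; rfl⟩
  rcases hw with rfl | rfl | rfl
  · obtain ⟨σ, hσ, h⟩ := H90.exists_M24_octad (hsupp d 8 hd) (hsupp e 8 he)
    exact ⟨⟨σ, hσ⟩, key d e σ hσ h⟩
  · obtain ⟨σ, hσ, h⟩ := H90.exists_M24_dodecad (hsupp d 12 hd) (hsupp e 12 he)
    exact ⟨⟨σ, hσ⟩, key d e σ hσ h⟩
  · have hc : ∀ a : golayCode, hammingNorm a.1 = 16 → hammingNorm (oneWord + a).1 = 8 := by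
      intro a ha
      rw [hammingNorm] at ha ⊢
      have e1 : (Finset.univ.filter fun i => (oneWord + a).1 i ≠ 0)
          = (Finset.univ.filter fun i => a.1 i ≠ 0)ᶜ := by
        ext i
        simp only [Finset.mem_compl, Finset.mem_filter, Finset.mem_univ, true_and]
        show (1 : ZMod 2) + a.1 i ≠ 0 ↔ ¬ a.1 i ≠ 0
        rcases H95.zmod2_cases (a.1 i) with p | p <;> simp [p, show (1 : ZMod 2) + 1 = 0 from rfl]
      rw [e1, Finset.card_compl, ha, H90.card_golayPt]
    obtain ⟨σ, hσ, h⟩ := H90.exists_M24_octad (hsupp _ 8 (hc d hd)) (hsupp _ 8 (hc e he))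
    refine ⟨⟨σ, hσ⟩, ?_⟩
    have := key _ _ σ hσ h
    refine Subtype.ext (funext fun i => ?_)
    have h2 := congrFun (congrArg Subtype.val this) i
    simp only [permC_apply, Submodule.coe_add, Pi.add_apply] at h2 ⊢
    exact add_left_cancel (a := (1 : ZMod 2)) h2

/-- **The orbit of the all-ones word is trivial.** -/
theorem orbit_trivial (L : Subgroup (Equiv.Perm golayCode))
    (hlin : ∀ T ∈ L, ∀ a b, T (a + b) = T a + T b) (hM : ∀ σ : M24, permC σ ∈ L)
    (hstab : ∀ T ∈ L, T oneWord = oneWord → ∃ σ : M24, T = permC σ) :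
    ∀ T ∈ L, T oneWord = oneWord := by
  classical
  have : Finite golayCode := inferInstance
  set O : Set golayCode := {d | ∃ T ∈ L, T oneWord = d} with hO
  have hOinv : ∀ T ∈ L, ∀ d, T d ∈ O ↔ d ∈ O := by
    intro T hT d
    refine ⟨fun ⟨U, hU, e⟩ => ⟨T⁻¹ * U, L.mul_mem (L.inv_mem hT) hU, ?_⟩,
      fun ⟨U, hU, e⟩ => ⟨T * U, L.mul_mem hT hU, by rw [Equiv.Perm.mul_apply, e]⟩⟩
    rw [Equiv.Perm.mul_apply, e, ← Equiv.Perm.mul_apply, inv_mul_cancel, Equiv.Perm.one_apply]
  have h1O : oneWord ∈ O := ⟨1, L.one_mem, rfl⟩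
  have h0O : (0 : golayCode) ∉ O := by
    rintro ⟨T, hT, e⟩
    have h00 : T 0 = 0 := by
      have := hlin T hT 0 0
      rw [add_zero] at this
      exact left_eq_add.mp this
    have : oneWord = 0 := T.injective (e.trans h00.symm)
    exact one_ne_zero (α := ZMod 2) (congrArg (fun d : golayCode => d.1 none) this)
  let s : Bool × Bool × Bool := (decide (∃ d ∈ O, hammingNorm d.1 = 8),
    decide (∃ d ∈ O, hammingNorm d.1 = 12), decide (∃ d ∈ O, hammingNorm d.1 = 16))
  have hcls : ∀ (w : ℕ), (w = 8 ∨ w = 12 ∨ w = 16) → ∀ d e : golayCode, hammingNorm d.1 = w →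
      hammingNorm e.1 = w → d ∈ O → e ∈ O := by
    intro w hw d e hd he hdO
    obtain ⟨σ, rfl⟩ := weight_transitive hw hd he
    exact (hOinv _ (hM σ) d).mpr hdO
  have h24 : ∀ d : golayCode, hammingNorm d.1 = 24 → d = oneWord := by
    intro d hd
    refine Subtype.ext (funext fun i => ?_)
    show d.1 i = 1
    rcases H95.zmod2_cases (d.1 i) with p | p
    · exfalso
      rw [hammingNorm] at hd
      have : (Finset.univ.filter fun j => d.1 j ≠ 0) ⊆ Finset.univ.erase i := fun j hj =>
        Finset.mem_erase.mpr ⟨fun e => (Finset.mem_filter.mp hj).2 (e ▸ p), Finset.mem_univ _⟩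
      have := Finset.card_le_card this
      rw [hd, Finset.card_erase_of_mem (Finset.mem_univ _), Finset.card_univ, H90.card_golayPt] at this
      omega
    · exact p
  have hone : hammingNorm oneWord.1 = 24 := by
    rw [hammingNorm, Finset.filter_true_of_mem (p := fun i => oneWord.1 i ≠ 0)
        (fun i _ => one_ne_zero (α := ZMod 2)),
      Finset.card_univ, H90.card_golayPt]
  have hmemO : ∀ d : golayCode, d ∈ O ↔ sel s (hammingNorm d.1) = true := by
    intro d
    simp only [sel, s, Bool.or_eq_true, Bool.and_eq_true, decide_eq_true_eq, Nat.beq_eq]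
    constructor
    · intro hd
      rcases H90.weight_cases d.1 d.2 with e | e | e | e | e
      · exact absurd hd ((Subtype.ext (hammingNorm_eq_zero.mp e) : d = 0) ▸ h0O)
      · exact Or.inl (Or.inl (Or.inr ⟨⟨d, hd, e⟩, e⟩))
      · exact Or.inl (Or.inr ⟨⟨d, hd, e⟩, e⟩)
      · exact Or.inr ⟨⟨d, hd, e⟩, e⟩
      · exact Or.inl (Or.inl (Or.inl e))
    · rintro (((e | ⟨⟨d', hd', e'⟩, e⟩) | ⟨⟨d', hd', e'⟩, e⟩) | ⟨⟨d', hd', e'⟩, e⟩)
      · rw [h24 d e]; exact h1O
      · exact hcls 8 (Or.inl rfl) d' d e' e hd'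
      · exact hcls 12 (Or.inr (Or.inl rfl)) d' d e' e hd'
      · exact hcls 16 (Or.inr (Or.inr rfl)) d' d e' e hd'
  have hweight : ∀ n, hammingNorm (H90.wordOf (H90.encode n)) = H90.popc (H90.encode n) :=
    fun n => H90.hammingNorm_wordOf _
  have hOcard : O.ncard = selCount s :=
    ncard_codeSet (fun n => sel s (H90.popc (H90.encode n))) O fun n _ => by
      rw [hmemO]
      simp only [hweight]
  have hdvdL : O.ncard ∣ Nat.card L := by
    have e : O = MulAction.orbit L oneWord := by
      ext d
      exact ⟨fun ⟨T, hT, e⟩ => ⟨⟨T, hT⟩, e⟩, fun ⟨⟨T, hT⟩, e⟩ => ⟨T, hT, e⟩⟩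
    rw [← Nat.card_coe_set_eq, e,
      Nat.card_congr (MulAction.orbitEquivQuotientStabilizer L oneWord)]
    exact Subgroup.card_quotient_dvd_card _
  have hprime : ∀ p : ℕ, p.Prime → noActOK p = true → p ∣ selCount s → False := by
    intro p hp hok hd
    have : Fact p.Prime := ⟨hp⟩
    exact not_dvd_of_linear hok L hlin ((hOcard ▸ hd).trans hdvdL)
  -- the class of the involution fixing an octad
  obtain ⟨ρA, hρA, hrA⟩ : ∃ ρ ∈ M24, H90.Repr ρ H90.invAN := by
    have hi := H90.isPerm_invs
    simp only [Bool.and_eq_true] at hi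
    exact H90.exists_M24_repr hi.1.1.1 hi.1.1.2
  set T0 := permC ⟨ρA, hρA⟩ with hT0
  let X : Finset (Equiv.Perm golayCode) := Finset.univ.filter fun T => ∃ U ∈ L, U * T0 * U⁻¹ = T
  have hX : ∀ T, T ∈ X ↔ ∃ U ∈ L, U * T0 * U⁻¹ = T := fun T => by simp [X]
  let Of : Finset golayCode := Finset.univ.filter fun d => d ∈ O
  let N1 : Finset (Equiv.Perm golayCode) := X.filter fun T => T oneWord = oneWord
  have hN1 : ∀ T, T ∈ N1 ↔ T ∈ Set.range fun σ : M24 => permC σ * T0 * (permC σ)⁻¹ := by
    intro T
    rw [Finset.mem_filter, hX, Set.mem_range]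
    constructor
    · rintro ⟨⟨U, hU, rfl⟩, hfix⟩
      have hUL : U * T0 * U⁻¹ ∈ L := L.mul_mem (L.mul_mem hU (hM _)) (L.inv_mem hU)
      obtain ⟨τ, hτ⟩ := hstab _ hUL hfix
      have hρρ : ρA * ρA = 1 := by
        refine (hrA.mul hrA).unique ?_
        have : H90.compN H90.invAN H90.invAN = H90.idN := by decide +kernel
        rw [this]; exact H90.repr_one
      have hT02 : T0 * T0 = 1 := by
        rw [hT0, ← map_mul, show (⟨ρA, hρA⟩ : M24) * ⟨ρA, hρA⟩ = 1 from Subtype.ext hρρ, map_one]
      have hτ2 : τ * τ = 1 := permC_injective (by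
        rw [map_mul, ← hτ, map_one, conj_mul, hT02]
        group)
      have hτ1 : τ ≠ 1 := by
        rintro rfl
        rw [map_one, conj_eq_one_iff, hT0, ← map_one permC] at hτ
        have h1 := congrArg Subtype.val (permC_injective hτ)
        have hp : H90.Repr (1 : Equiv.Perm GolayPt) H90.invAN := by
          have e : ρA = 1 := h1
          rwa [e] at hrA
        have : ∀ i : Fin 24, H90.img H90.invAN i.val = i.val := fun i => by
          rw [← hp i, Equiv.Perm.one_apply, H90.idx_pt]
        have hne : ¬ ∀ i : Fin 24, H90.img H90.invAN i.val = i.val := by decide +kernel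
        exact hne this
      have h256 : Nat.card (fixOf τ.1) = 256 := by
        rw [← countA, ← card_fixOf_repr hrA]
        have hpt : ∀ (σ : M24) (d : golayCode), d ∈ fixOf σ.1 ↔ permC σ d = d := by
          intro σ d
          constructor
          · intro h
            refine Subtype.ext (funext fun i => ?_)
            rw [permC_apply]
            have := h (σ.1.symm i)
            rw [Equiv.apply_symm_apply] at this
            exact this.symm
          · intro h i
            have := congrFun (congrArg Subtype.val h) (σ.1 i)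
            rw [permC_apply, Equiv.symm_apply_apply] at this
            exact this.symm
        refine Nat.card_congr (Equiv.subtypeEquiv U⁻¹ fun d => ?_)
        show d ∈ fixOf τ.1 ↔ U⁻¹ d ∈ fixOf (⟨ρA, hρA⟩ : M24).1
        rw [hpt, hpt, ← hτ, ← hT0]
        simp only [Equiv.Perm.mul_apply]
        rw [← Equiv.Perm.eq_inv_iff_eq]
      have : Fact (Nat.Prime 2) := ⟨Nat.prime_two⟩
      obtain ⟨k, hk, ρ, hρ, he, hc⟩ := H90.involution_class τ.2 (orderOf_eq_prime
        (by rw [pow_two]; exact congrArg Subtype.val hτ2) fun e => hτ1 (Subtype.ext e))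
      rcases hc with ⟨hr, -⟩ | ⟨hr, -⟩
      · refine ⟨⟨k, hk⟩, ?_⟩
        rw [hτ, hT0, ← map_inv, ← map_mul, ← map_mul]
        refine congrArg permC (Subtype.ext ?_)
        show k * ρA * k⁻¹ = τ.1
        rw [← he, hr.unique hrA]
      · exfalso
        rw [← he, card_fixOf_conj hk, card_fixOf_repr hr, countB] at h256
        omega
    · rintro ⟨σ, rfl⟩
      refine ⟨⟨_, hM σ, rfl⟩, ?_⟩
      rw [hT0, ← map_inv, ← map_mul, ← map_mul, permC_one]
  have hN1dvd : N1.card ∣ 244823040 := by
    let _ := MulAction.compHom (Equiv.Perm golayCode)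
      ((MulAut.conj (G := Equiv.Perm golayCode)).comp permC)
    have e : (N1 : Set (Equiv.Perm golayCode)) = MulAction.orbit M24 T0 := by
      ext T
      rw [Finset.mem_coe, hN1]
      rfl
    rw [← H90.natCard_M24, ← Set.ncard_coe_finset, e, ← Nat.card_coe_set_eq,
      Nat.card_congr (MulAction.orbitEquivQuotientStabilizer M24 T0)]
    exact Subgroup.card_quotient_dvd_card _
  have hcount : ∀ m, selFix s = m → X.card * m = selCount s * N1.card := by
    intro m hm
    have hOf : Of.card = selCount s := by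
      rw [← hOcard, ← Set.ncard_coe_finset]
      refine congrArg Set.ncard (Set.ext fun d => ?_)
      simp [Of]
    rw [← hOf]
    refine Finset.card_mul_eq_card_mul (fun T d => T d = d) (fun T hT => ?_) (fun d hd => ?_)
    · obtain ⟨U, hU, rfl⟩ := (hX T).mp hT
      rw [← hm, selFix, ← ncard_codeSet (fun n => sel s (H90.popc (H90.encode n)) &&
        Nat.beq (H90.permMask H90.invAN (H90.encode n)) (H90.encode n))
        {d | d ∈ O ∧ T0 d = d} fun n hn => ?_, ← Set.ncard_coe_finset]
      · rw [← Set.ncard_image_of_injective {d | d ∈ O ∧ T0 d = d} U.injective]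
        refine congrArg Set.ncard (Set.ext fun d => ?_)
        simp only [Finset.mem_coe, Finset.mem_bipartiteAbove, Of, Finset.mem_filter, Finset.mem_univ,
          true_and, Set.mem_image, Set.mem_ofPred_eq, Equiv.Perm.mul_apply]
        constructor
        · rintro ⟨hd, he⟩
          exact ⟨U⁻¹ d, ⟨(hOinv _ (L.inv_mem hU) d).mpr hd,
            U.injective (he.trans (by simp))⟩, by simp⟩
        · rintro ⟨e, ⟨he, he'⟩, rfl⟩
          exact ⟨(hOinv _ hU e).mpr he, by rw [perm_inv_apply, he']⟩
      · rw [Set.mem_ofPred_eq, hmemO, hweight, Bool.and_eq_true]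
        refine and_congr_right fun _ => ?_
        rw [← mem_fixOf_repr hrA hn]
        constructor
        · intro h i
          have := congrFun (congrArg Subtype.val h) (ρA i)
          rw [hT0, permC_apply, Equiv.symm_apply_apply] at this
          exact this.symm
        · intro h
          refine Subtype.ext (funext fun i => ?_)
          rw [hT0, permC_apply]
          have := h (ρA.symm i)
          rw [Equiv.apply_symm_apply] at this
          exact this.symm
    · obtain ⟨U, hU, rfl⟩ := (Finset.mem_filter.mp hd).2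
      refine Finset.card_bij' (fun T _ => U⁻¹ * T * U) (fun T _ => U * T * U⁻¹) ?_ ?_ ?_ ?_
      · intro T hT
        simp only [Finset.mem_bipartiteBelow] at hT
        obtain ⟨hT, he⟩ := hT
        obtain ⟨V, hV, rfl⟩ := (hX T).mp hT
        refine Finset.mem_filter.mpr ⟨(hX _).mpr ⟨U⁻¹ * V, L.mul_mem (L.inv_mem hU) hV, by group⟩, ?_⟩
        rw [Equiv.Perm.mul_apply, Equiv.Perm.mul_apply, he, perm_inv_apply]
      · intro T hT
        obtain ⟨hT, he⟩ := Finset.mem_filter.mp hT
        obtain ⟨V, hV, rfl⟩ := (hX T).mp hT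
        simp only [Finset.mem_bipartiteBelow]
        refine ⟨(hX _).mpr ⟨U * V, L.mul_mem hU hV, by group⟩, ?_⟩
        rw [Equiv.Perm.mul_apply, Equiv.Perm.mul_apply, perm_inv_apply, he]
      · intro T _; group
      · intro T _; group
  obtain ⟨⟨v100, v001, v010, v110, v011⟩, ⟨v101, f101⟩, ⟨v111, f111⟩⟩ := selCount_values
  intro T hT
  rcases h8 : s.1 with - | - <;> rcases h12 : s.2.1 with - | - <;> rcases h16 : s.2.2 with - | - <;>
    (have hs : s = (s.1, s.2.1, s.2.2) := rfl
     rw [h8, h12, h16] at hs)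
  · have hmem : T oneWord ∈ O := ⟨T, hT, rfl⟩
    rw [hmemO, hs] at hmem
    simp only [sel, Bool.false_and, Bool.or_false, Nat.beq_eq] at hmem
    exact h24 _ hmem
  · exact (hprime 19 (by norm_num) noAct19 (by rw [hs, v001]; norm_num)).elim
  · exact (hprime 859 (by norm_num) noAct859 (by rw [hs, v010]; norm_num)).elim
  · exact (hprime 139 (by norm_num) noAct139 (by rw [hs, v011]; norm_num)).elim
  · exact (hprime 19 (by norm_num) noAct19 (by rw [hs, v100]; norm_num)).elim
  · exfalso
    have h := hcount 143 (by rw [hs]; exact f101)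
    rw [hs, v101] at h
    have h13 : 13 ∣ 1519 * N1.card := ⟨X.card * 11, by omega⟩
    rcases (Nat.Prime.dvd_mul (by norm_num)).mp h13 with h | h
    · norm_num at h
    · have := h.trans hN1dvd
      norm_num at this
  · exact (hprime 139 (by norm_num) noAct139 (by rw [hs, v110]; norm_num)).elim
  · exfalso
    have h := hcount 255 (by rw [hs]; exact f111)
    rw [hs, v111] at h
    have h17 : 17 ∣ 4095 * N1.card := ⟨X.card * 15, by omega⟩
    rcases (Nat.Prime.dvd_mul (by norm_num)).mp h17 with h | h
    · norm_num at h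
    · have := h.trans hN1dvd
      norm_num at this

end H35.CoStd
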