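import Cfsg.Agent.H35.CoStd.Invol
import Cfsg.Agent.H35.CoStd.Orbit
import Cfsg.Agent.H35.CoStd.Generic
import Cfsg.Agent.H95.OutCo1
import Mathlib.GroupTheory.IsPerfect

/-!
A standard subgroup isomorphic to the lattice group with cyclic Sylow 2-subgroups in its centraliser
is normal, the odd core being trivial.
-/

set_option autoImplicit false

namespace H35.CoStd

open Cfsg Finset H95

theorem mulAut_inner (hperf : commutator Co0 = ⊤) (ψ : MulAut Co0) :
    ∃ k : Co0, ∀ x, ψ x = k * x * k⁻¹ := by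
  have hmap : (Subgroup.center Co0).map ψ.toMonoidHom = Subgroup.center Co0 := by
    ext x
    rw [Subgroup.mem_map]
    constructor
    · rintro ⟨y, hy, rfl⟩
      rw [Subgroup.mem_center_iff] at hy ⊢
      intro g
      obtain ⟨g, rfl⟩ := ψ.surjective g
      show ψ g * ψ y = ψ y * ψ g
      rw [← map_mul, ← map_mul, hy]
    · intro hx
      refine ⟨ψ.symm x, ?_, ψ.apply_symm_apply x⟩
      rw [Subgroup.mem_center_iff] at hx ⊢
      intro g
      apply ψ.injective
      rw [map_mul, map_mul, ψ.apply_symm_apply, hx]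
  let φ : MulAut Spor.Co1 :=
    QuotientGroup.congr (Subgroup.center Co0) (Subgroup.center Co0) ψ hmap
  obtain ⟨hsub, -⟩ := Nat.card_eq_one_iff_unique.mp out_co1
  have hmem : φ ∈ Cfsg.Inn Spor.Co1 :=
    (QuotientGroup.eq_one_iff φ).mp (Subsingleton.elim _ _)
  obtain ⟨κ, hκ⟩ := hmem
  obtain ⟨k, rfl⟩ := QuotientGroup.mk_surjective κ
  have hc : ∀ x, (k * x * k⁻¹)⁻¹ * ψ x ∈ Subgroup.center Co0 := by
    intro x
    rw [← QuotientGroup.eq]
    exact DFunLike.congr_fun hκ (x : Spor.Co1)
  have hcomm : ∀ x y, ((k * x * k⁻¹)⁻¹ * ψ x) * y = y * ((k * x * k⁻¹)⁻¹ * ψ x) := fun x y =>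
    ((Subgroup.mem_center_iff.mp (hc x)) y).symm
  let δ : Co0 →* Subgroup.center Co0 :=
    MonoidHom.mk' (fun x => ⟨_, hc x⟩) fun x y => Subtype.ext (by
      show (k * (x * y) * k⁻¹)⁻¹ * ψ (x * y)
        = (k * x * k⁻¹)⁻¹ * ψ x * ((k * y * k⁻¹)⁻¹ * ψ y)
      rw [map_mul, ← mul_assoc ((k * x * k⁻¹)⁻¹ * ψ x), hcomm x]
      group)
  have hker : commutator Co0 ≤ δ.ker := by
    rw [commutator_def, Subgroup.commutator_le]
    intro a _ b _
    rw [MonoidHom.mem_ker, commutatorElement_def, map_mul, map_mul, map_mul, map_inv, map_inv]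
    rw [show δ a * δ b = δ b * δ a from Subtype.ext (hcomm a _)]
    group
  refine ⟨k, fun x => ?_⟩
  have h := hker (hperf ▸ Subgroup.mem_top x : x ∈ commutator Co0)
  rw [MonoidHom.mem_ker] at h
  exact (inv_mul_eq_one.mp (congrArg Subtype.val h)).symm

theorem signEl_injective : Function.Injective signEl := fun d e h => by
  have h' := (mono_injective (hσ := one_mem _) (hσ' := one_mem _) (hc := code_supp d)
    (hc' := code_supp e) h).2
  exact Subtype.ext (H90.support₂_injective h')

theorem negOne_eq_signEl : negOne = signEl oneWord := by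
  refine co0_ext fun v => Subtype.ext (funext fun i => ?_)
  rw [signEl_coord, negOne_smul, if_pos (show oneWord.1 i ≠ 0 from one_ne_zero (α := ZMod 2))]
  rfl

theorem negOne_sq' : negOne * negOne = (1 : Co0) := by
  rw [negOne_eq_signEl]; exact signEl_sq _

/-- what permutes the sign changes fixes the standard cross -/
theorem mem_std_of_norm {x : Co0} (hx : ∀ d, ∃ d', signEl d * x = x * signEl d') : x ∈ stdGrp := by
  have hpm : ∀ i, ∀ d, signEl d • (x • eight i) = x • eight i ∨
      signEl d • (x • eight i) = -(x • eight i) := by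
    intro i d
    obtain ⟨d', hd'⟩ := hx d
    have e : signEl d' • eight i = eight i ∨ signEl d' • eight i = -eight i := by
      rcases H95.zmod2_cases (d'.1 i) with h | h
      · refine Or.inl (Subtype.ext (funext fun k => ?_))
        rw [signEl_coord]
        by_cases hk : k = i
        · subst hk; simp [h]
        · simp [eight, hk]
      · refine Or.inr (Subtype.ext (funext fun k => ?_))
        rw [signEl_coord]
        by_cases hk : k = i
        · subst hk; simp [h, eight]
        · simp [eight, hk]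
    rw [← mul_smul, hd', mul_smul]
    rcases e with e | e <;> rw [e]
    · exact Or.inl rfl
    · exact Or.inr (co0_neg x _)
  have hsingle : ∀ i, ∃ j s, (s = 8 ∨ s = -8) ∧
      ((x • eight i : leechLattice) : GolayPt → ℤ) = Pi.single j s := by
    intro i
    have h64 : ldot (x • eight i) (x • eight i) = 64 := by rw [co0_dot, eight_norm]
    obtain ⟨j, hj⟩ : ∃ j, ((x • eight i : leechLattice) : GolayPt → ℤ) j ≠ 0 := by
      by_contra hall
      simp only [not_exists, not_not] at hall
      rw [ldot, dotInt, Finset.sum_eq_zero fun j _ => by rw [hall j, zero_mul]] at h64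
      norm_num at h64
    have hz : ∀ l, l ≠ j → ((x • eight i : leechLattice) : GolayPt → ℤ) l = 0 := by
      intro l hl
      obtain ⟨d, hd, hdT⟩ := exists_code_small ({j, l} : Finset GolayPt)
        (le_trans Finset.card_le_two (by norm_num)) (Pi.single j 1)
      have dj : d j = 1 := by rw [hdT j (by simp), Pi.single_eq_same]
      have dl : d l = 0 := by rw [hdT l (by simp), Pi.single_eq_of_ne hl]
      rcases hpm i ⟨d, hd⟩ with e | e
      · have := congrArg (fun v : leechLattice => (v : GolayPt → ℤ) j) e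
        simp only [signEl_coord] at this
        rw [if_pos (by rw [dj]; exact one_ne_zero)] at this
        omega
      · have := congrArg (fun v : leechLattice => (v : GolayPt → ℤ) l) e
        simp only [signEl_coord] at this
        rw [if_neg (by rw [dl]; simp)] at this
        simp only [AddSubgroup.coe_neg, Pi.neg_apply] at this
        omega
    set s := ((x • eight i : leechLattice) : GolayPt → ℤ) j with hs
    refine ⟨j, s, ?_, funext fun l => ?_⟩
    · rw [ldot, dotInt, Finset.sum_eq_single j (fun l _ hl => by rw [hz l hl, zero_mul])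
        (fun h => absurd (Finset.mem_univ j) h), ← hs] at h64
      rcases mul_self_eq_mul_self_iff.mp (show s * s = 8 * 8 by linarith) with h | h
      · exact Or.inl h
      · exact Or.inr h
    · by_cases hl : l = j
      · subst hl; rw [Pi.single_eq_same]
      · rw [Pi.single_eq_of_ne hl, hz l hl]
  obtain ⟨σ, c, hσ, hc, rfl⟩ := exists_mono_of_eight hsingle
  exact ⟨σ, monMap_mono σ c hσ hc⟩

theorem std_decomp {m : Co0} {σ : Equiv.Perm GolayPt} (hm : MonMap m σ) :
    ∃ (e : golayCode) (hσ : σ ∈ M24), m = signEl e * permHom ⟨σ, hσ⟩ := by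
  obtain ⟨c, hσ, hc, rfl⟩ := hm.exists_mono
  obtain ⟨e, he⟩ := mono_eq_sign_mul hσ hc
  exact ⟨e, hσ, he⟩

theorem signEl_conj_std {e : golayCode} {σ : M24} (d : golayCode) :
    (signEl e * permHom σ) * signEl d * (signEl e * permHom σ)⁻¹ = signEl (permC σ d) := by
  rw [mul_inv_rev, inv_eq_of_mul_eq_one_right (signEl_sq e),
    show signEl e * permHom σ * signEl d * ((permHom σ)⁻¹ * signEl e)
      = signEl e * (permHom σ * signEl d * (permHom σ)⁻¹) * signEl e by group,
    signEl_conj, ← signEl_add, ← signEl_add]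
  refine congrArg signEl (Subtype.ext (funext fun i => ?_))
  simp only [Submodule.coe_add, Pi.add_apply, permC_apply]
  rcases H95.zmod2_cases (e.1 i) with a | a <;> rcases H95.zmod2_cases (d.1 (σ.1.symm i)) with b | b <;>
    simp [a, b, show (1 : ZMod 2) + 1 = 0 from rfl]

section

variable {G : Type*} [Group G] [Finite G] {A : Subgroup G} (φ : ↥A ≃* ↥Co0)

/-- the embedding of the lattice group -/
noncomputable def emb : Co0 →* G := A.subtype.comp φ.symm.toMonoidHom

theorem emb_mem (x : Co0) : emb φ x ∈ A := (φ.symm x).2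

theorem emb_injective : Function.Injective (emb φ) :=
  A.subtype_injective.comp φ.symm.injective

theorem exists_emb {a : G} (ha : a ∈ A) : ∃ x, emb φ x = a :=
  ⟨φ ⟨a, ha⟩, congrArg Subtype.val (φ.symm_apply_apply ⟨a, ha⟩)⟩

theorem emb_comm {c : G} (hc : c ∈ Subgroup.centralizer (A : Set G)) (x : Co0) :
    Commute (emb φ x) c := Subgroup.mem_centralizer_iff.mp hc _ (emb_mem φ x)

include φ in
theorem inner_normalizer (hperf : commutator Co0 = ⊤) {g : G}
    (hg : g ∈ Subgroup.normalizer (A : Set G)) :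
    ∃ a ∈ A, a⁻¹ * g ∈ Subgroup.centralizer (A : Set G) := by
  let ψ : MulAut Co0 := (φ.symm.trans ((A.normalizerMonoidHom ⟨g, hg⟩).trans φ))
  obtain ⟨k, hk⟩ := mulAut_inner hperf ψ
  refine ⟨emb φ k, emb_mem φ k, Subgroup.mem_centralizer_iff.mpr fun a ha => ?_⟩
  obtain ⟨x, rfl⟩ := exists_emb φ ha
  have h1 : g * emb φ x * g⁻¹ = emb φ k * emb φ x * (emb φ k)⁻¹ := by
    rw [← map_inv, ← map_mul, ← map_mul, ← hk x]
    show g * (φ.symm x : G) * g⁻¹ = ((φ.symm (φ _) : A) : G)
    rw [MulEquiv.symm_apply_apply]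
    rfl
  calc emb φ x * ((emb φ k)⁻¹ * g)
      = (emb φ k)⁻¹ * (emb φ k * emb φ x * (emb φ k)⁻¹) * g := by group
    _ = (emb φ k)⁻¹ * g * emb φ x := by rw [← h1]; group

theorem centre_cases {x : G} (hx : x ∈ A) (hc : x ∈ Subgroup.centralizer (A : Set G)) :
    x = 1 ∨ x = emb φ negOne := by
  obtain ⟨a, rfl⟩ := exists_emb φ hx
  have : a ∈ Subgroup.center Co0 := by
    rw [Subgroup.mem_center_iff]
    intro b
    refine emb_injective φ ?_
    rw [map_mul, map_mul]
    exact (emb_comm φ hc b).eq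
  rcases center_cases this with rfl | rfl
  · exact Or.inl (map_one _)
  · exact Or.inr rfl

/-- the image of the monomial group times the centraliser -/
def monCent : Subgroup G where
  carrier := {g | ∃ m ∈ stdGrp, ∃ c ∈ Subgroup.centralizer (A : Set G), g = emb φ m * c}
  one_mem' := ⟨1, one_mem _, 1, one_mem _, by rw [map_one, one_mul]⟩
  mul_mem' := by
    rintro _ _ ⟨m, hm, c, hc, rfl⟩ ⟨m', hm', c', hc', rfl⟩
    refine ⟨m * m', mul_mem hm hm', c * c', mul_mem hc hc', ?_⟩
    calc emb φ m * c * (emb φ m' * c') = emb φ m * (c * emb φ m') * c' := by group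
      _ = emb φ m * (emb φ m' * c) * c' := by rw [(emb_comm φ hc m').eq]
      _ = _ := by rw [map_mul]; group
  inv_mem' := by
    rintro _ ⟨m, hm, c, hc, rfl⟩
    refine ⟨m⁻¹, inv_mem hm, c⁻¹, inv_mem hc, ?_⟩
    rw [map_inv, mul_inv_rev]
    exact ((emb_comm φ hc m).inv_inv).symm.eq

variable {φ} (S : StdCyclic.Setup A (emb φ negOne)) (hperf : commutator Co0 = ⊤)

include S hperf

theorem to_monCent (F : Subgroup G) (hF : ∀ f ∈ F, f * f = 1)
    (hz : ∀ f ∈ F, f * emb φ negOne = emb φ negOne * f) :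
    ∃ k : G, k * emb φ negOne = emb φ negOne * k ∧ ∀ f ∈ F, k * f * k⁻¹ ∈ monCent φ := by
  classical
  have : Fact (Nat.Prime 2) := ⟨Nat.prime_two⟩
  set H : Subgroup G := Subgroup.normalizer (A : Set G) with hH
  have hmemH : ∀ g, g ∈ H ↔ g * emb φ negOne = emb φ negOne * g := fun g => S.mem_normalizer_iff
  set K : Subgroup H := (monCent φ).subgroupOf H with hK
  have hembH : ∀ x, emb φ x ∈ H := fun x => (hmemH _).mpr (S.central _ (emb_mem φ x))
  have hindex : K.index = stdGrp.index := by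
    refine (Nat.card_congr (Equiv.ofBijective
      (fun q : Co0 ⧸ stdGrp => Quotient.liftOn' q (fun x => ((⟨emb φ x, hembH x⟩ : H) : H ⧸ K))
        fun x y hxy => ?_) ⟨?_, ?_⟩)).symm
    · rw [QuotientGroup.leftRel_apply] at hxy
      refine QuotientGroup.eq.mpr ?_
      show (emb φ x)⁻¹ * emb φ y ∈ monCent φ
      exact ⟨x⁻¹ * y, hxy, 1, one_mem _, by rw [map_mul, map_inv, mul_one]⟩
    · intro p q hpq
      induction p using QuotientGroup.induction_on with | _ x => ?_
      induction q using QuotientGroup.induction_on with | _ y => ?_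
      have h0 := QuotientGroup.eq.mp
        (show (((⟨emb φ x, hembH x⟩ : H)) : H ⧸ K) = (((⟨emb φ y, hembH y⟩ : H)) : H ⧸ K) from hpq)
      have h' : (emb φ x)⁻¹ * emb φ y ∈ monCent φ := h0
      refine QuotientGroup.eq.mpr ?_
      obtain ⟨m, hm, c, hc, e⟩ := h'
      rw [← map_inv, ← map_mul] at e
      have hcA : c ∈ A := by
        rw [show c = (emb φ m)⁻¹ * (emb φ m * c) by group, ← e]
        exact A.mul_mem (A.inv_mem (emb_mem φ m)) (emb_mem φ _)
      rcases centre_cases φ hcA hc with rfl | rfl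
      · rw [mul_one] at e
        rw [emb_injective φ e]; exact hm
      · rw [← map_mul] at e
        rw [emb_injective φ e]
        exact mul_mem hm ⟨1, fun i => ⟨-8, Or.inr rfl, by
          rw [negOne_smul]; exact (Pi.single_neg i 8).symm⟩⟩
    · intro q
      obtain ⟨⟨g, hg⟩, rfl⟩ := QuotientGroup.mk_surjective q
      obtain ⟨a, ha, c, hc, e⟩ :=
        S.exists_decomp (fun g hg => inner_normalizer φ hperf hg) ((hmemH g).mp hg)
      obtain ⟨x, rfl⟩ := exists_emb φ ha
      refine ⟨(x : Co0 ⧸ stdGrp), QuotientGroup.eq.mpr ?_⟩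
      show (emb φ x)⁻¹ * g ∈ monCent φ
      exact ⟨1, one_mem _, c, hc, by rw [e, map_one]; group⟩
  set F' : Subgroup H := F.subgroupOf H with hF'
  have hp : IsPGroup 2 F' := by
    rintro ⟨f, hf⟩
    refine ⟨1, Subtype.ext (Subtype.ext ?_)⟩
    show (f : G) ^ (2 ^ 1) = 1
    rw [pow_one, pow_two]
    exact hF _ hf
  obtain ⟨q, hq⟩ := hp.nonempty_fixed_point_of_prime_not_dvd_card (H ⧸ K)
    (by rw [← Subgroup.index_eq_card, hindex, index_stdGrp]; norm_num)
  obtain ⟨y, rfl⟩ := QuotientGroup.mk_surjective q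
  refine ⟨(y : G)⁻¹, ?_, fun f hf => ?_⟩
  · exact (Commute.inv_left ((hmemH _).mp y.2)).eq
  · have hfH : f ∈ H := (hmemH f).mpr (hz f hf)
    have hfix : (((⟨f, hfH⟩ : H) * y : H) : H ⧸ K) = (y : H ⧸ K) := hq ⟨⟨f, hfH⟩, hf⟩
    rw [QuotientGroup.eq] at hfix
    have h := (monCent φ).inv_mem (show (((⟨f, hfH⟩ : H) * y)⁻¹ * y : H).1 ∈ monCent φ from hfix)
    simpa [mul_assoc] using h

theorem le_signs (F : Subgroup G) (hF : ∀ f ∈ F, f * f = 1) (hcard : Nat.card F = 4096)
    (hK : F ≤ monCent φ) : ∀ f ∈ F, ∃ d, f = emb φ (signEl d) := by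
  classical
  let Fb : Subgroup M24 :=
    { carrier := {σ | ∃ m, MonMap m σ.1 ∧ ∃ c ∈ Subgroup.centralizer (A : Set G), emb φ m * c ∈ F}
      one_mem' := ⟨1, MonMap.one, 1, one_mem _, by rw [map_one, one_mul]; exact F.one_mem⟩
      mul_mem' := by
        rintro σ τ ⟨m, hm, c, hc, h⟩ ⟨m', hm', c', hc', h'⟩
        refine ⟨m * m', hm.mul hm', c * c', mul_mem hc hc', ?_⟩
        convert F.mul_mem h h' using 1
        calc emb φ (m * m') * (c * c') = emb φ m * (emb φ m' * c) * c' := by rw [map_mul]; group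
          _ = emb φ m * (c * emb φ m') * c' := by rw [(emb_comm φ hc m').eq]
          _ = _ := by group
      inv_mem' := by
        rintro σ ⟨m, hm, c, hc, h⟩
        refine ⟨m⁻¹, hm.inv, c⁻¹, inv_mem hc, ?_⟩
        convert F.inv_mem h using 1
        rw [map_inv, mul_inv_rev]
        exact ((emb_comm φ hc m).inv_inv).eq }
  have hFb : ∀ σ ∈ Fb, σ * σ = 1 := by
    rintro σ ⟨m, hm, c, hc, h⟩
    have h2 := hF _ h
    have hcm := emb_comm φ hc m
    have e : emb φ (m * m) * (c * c) = 1 := by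
      rw [map_mul, ← h2]
      calc emb φ m * emb φ m * (c * c) = emb φ m * (emb φ m * c) * c := by group
        _ = emb φ m * (c * emb φ m) * c := by rw [hcm.eq]
        _ = _ := by group
    have hcA : c * c ∈ A := by
      rw [eq_inv_of_mul_eq_one_right e]
      exact A.inv_mem (emb_mem φ _)
    have hmm : m * m = 1 ∨ m * m = negOne := by
      rcases centre_cases φ hcA (mul_mem hc hc) with e' | e' <;> rw [e'] at e
      · rw [mul_one] at e
        exact Or.inl (emb_injective φ (e.trans (map_one _).symm))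
      · rw [← map_mul] at e
        have := emb_injective φ (e.trans (map_one _).symm)
        refine Or.inr ?_
        rw [eq_inv_of_mul_eq_one_left this, inv_eq_of_mul_eq_one_right negOne_sq']
    refine Subtype.ext ?_
    rcases hmm with e' | e'
    · exact (hm.mul hm).unique (by rw [e']; exact MonMap.one)
    · refine (hm.mul hm).unique ?_
      rw [e', negOne_eq_signEl]
      exact monMap_mono 1 _ (one_mem _) (code_supp oneWord)
  have hker : ∀ f ∈ F, ∀ m, MonMap m 1 → ∀ c ∈ Subgroup.centralizer (A : Set G),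
      f = emb φ m * c → ∃ d, f = emb φ (signEl d) := by
    intro f hf m hm c hc e
    obtain ⟨d, h1, hd⟩ := std_decomp hm
    rw [show (⟨1, h1⟩ : M24) = 1 from rfl, map_one, mul_one] at hd
    subst hd
    have hcm := emb_comm φ hc (signEl d)
    have hcc : c * c = 1 := by
      have h2 := hF _ hf
      rw [e] at h2
      have : emb φ (signEl d) * emb φ (signEl d) = 1 := by rw [← map_mul, signEl_sq, map_one]
      calc c * c = emb φ (signEl d) * emb φ (signEl d) * (c * c) := by rw [this, one_mul]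
        _ = emb φ (signEl d) * (emb φ (signEl d) * c) * c := by group
        _ = emb φ (signEl d) * (c * emb φ (signEl d)) * c := by rw [hcm.eq]
        _ = emb φ (signEl d) * c * (emb φ (signEl d) * c) := by group
        _ = 1 := h2
    rcases S.eq_of_sq hc hcc with rfl | rfl
    · exact ⟨d, by rw [e, mul_one]⟩
    · exact ⟨d + oneWord, by rw [e, signEl_add, negOne_eq_signEl, map_mul]⟩
  have hsec : ∀ σ : Fb, ∃ f : F, ∃ m, MonMap m σ.1.1 ∧
      ∃ c ∈ Subgroup.centralizer (A : Set G), emb φ m * c = f.1 := fun σ => by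
    obtain ⟨m, hm, c, hc, h⟩ := σ.2
    exact ⟨⟨_, h⟩, m, hm, c, hc, rfl⟩
  choose s ms hms cs hcs hs using hsec
  have hperm : ∀ f : F, ∃ σ : Fb, ∃ d : golayCode,
      d ∈ fixWords Fb ∧ f.1 = (s σ).1 * emb φ (signEl d) := by
    intro f
    obtain ⟨m, ⟨σ, hm⟩, c, hc, e⟩ := hK f.2
    obtain ⟨-, hσ, -⟩ := std_decomp hm
    let σ' : Fb := ⟨⟨σ, hσ⟩, m, hm, c, hc, e ▸ f.2⟩
    obtain ⟨d, hd⟩ := hker ((s σ').1⁻¹ * f.1) (F.mul_mem (F.inv_mem (s σ').2) f.2)
      ((ms σ')⁻¹ * m) (by simpa [σ'] using (hms σ').inv.mul hm) ((cs σ')⁻¹ * c)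
      (mul_mem (inv_mem (hcs σ')) hc) (by
        rw [← hs σ', e, map_mul, map_inv, mul_inv_rev]
        have h3 : (cs σ')⁻¹ * ((emb φ (ms σ'))⁻¹ * emb φ m)
            = (emb φ (ms σ'))⁻¹ * emb φ m * (cs σ')⁻¹ := by
          rw [← map_inv, ← map_mul]
          exact (emb_comm φ (inv_mem (hcs σ')) _).eq.symm
        calc (cs σ')⁻¹ * (emb φ (ms σ'))⁻¹ * (emb φ m * c)
            = (cs σ')⁻¹ * ((emb φ (ms σ'))⁻¹ * emb φ m) * c := by group
          _ = (emb φ (ms σ'))⁻¹ * emb φ m * (cs σ')⁻¹ * c := by rw [h3]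
          _ = _ := by group)
    refine ⟨σ', d, mem_fixWords.mpr ?_, by rw [← hd]; group⟩
    rintro τ ⟨m', hm', c', hc', hmem⟩ i
    obtain ⟨e', hτ', hme⟩ := std_decomp hm'
    have hdF : emb φ (signEl d) ∈ F := hd ▸ F.mul_mem (F.inv_mem (s σ').2) f.2
    have hcomm : ∀ a ∈ F, ∀ b ∈ F, a * b = b * a := fun a ha b hb => by
      calc a * b = (a * b)⁻¹ := (inv_eq_of_mul_eq_one_right (hF _ (F.mul_mem ha hb))).symm
        _ = b * a := by
          rw [mul_inv_rev, inv_eq_of_mul_eq_one_right (hF _ hb), inv_eq_of_mul_eq_one_right (hF _ ha)]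
    have h4 : emb φ m' * emb φ (signEl d) = emb φ (signEl d) * emb φ m' := by
      have h5 := hcomm _ hmem _ hdF
      rw [mul_assoc, ← (emb_comm φ hc' (signEl d)).eq, ← mul_assoc, ← mul_assoc] at h5
      exact mul_right_cancel h5
    rw [← map_mul, ← map_mul] at h4
    have h5 := emb_injective φ h4
    rw [hme] at h5
    have h6 : signEl (permC ⟨τ.1, hτ'⟩ d) = signEl d := by
      rw [← signEl_conj_std (e := e'), h5, mul_inv_cancel_right]
    have h7 := congrFun (congrArg Subtype.val (signEl_injective h6)) (τ.1 i)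
    rw [permC_apply] at h7
    simp only [Equiv.symm_apply_apply] at h7
    exact h7.symm
  choose pσ pd hpd hpf using hperm
  have hinj : Function.Injective fun f : F => (pσ f, (⟨pd f, hpd f⟩ : fixWords Fb)) := by
    intro f f' h
    simp only [Prod.mk.injEq, Subtype.mk.injEq] at h
    refine Subtype.ext ?_
    rw [hpf f, hpf f', h.1, h.2]
  have hle := Nat.card_le_card_of_injective _ hinj
  rw [hcard, Nat.card_prod] at hle
  have hbot : Fb = ⊥ := by
    by_contra hne
    exact absurd hle (not_le.mpr (card_mul_fixWords_lt Fb hFb hne))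
  intro f hf
  obtain ⟨m, ⟨σ, hm⟩, c, hc, e⟩ := hK hf
  obtain ⟨-, hσ, -⟩ := std_decomp hm
  have : (⟨σ, hσ⟩ : M24) ∈ Fb := ⟨m, hm, c, hc, e ▸ hf⟩
  rw [hbot, Subgroup.mem_bot] at this
  have h1 : σ = 1 := congrArg Subtype.val this
  exact hker f hf m (h1 ▸ hm) c hc e

/-- the fusion of the involution inside the standard subgroup is trivial -/
theorem fusion (g : G) (hg : g * emb φ negOne * g⁻¹ ∈ A) :
    g * emb φ negOne * g⁻¹ = emb φ negOne := by
  classical
  set z := emb φ negOne with hz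
  obtain ⟨x, hx⟩ := exists_emb φ hg
  have hx2 : x * x = 1 := emb_injective φ (by
    rw [map_mul, hx, map_one, conj_mul, S.sq]; group)
  obtain ⟨y, d, hyd⟩ := exists_conj_signEl hx2
  set u := emb φ y * g with hu
  have hut : u * z * u⁻¹ = emb φ (signEl d) := by
    rw [← hyd, map_mul, map_mul, hx, map_inv, hu]; group
  suffices h : u * z * u⁻¹ = z by
    have hc : emb φ y * z = z * emb φ y := S.central _ (emb_mem φ y)
    calc g * z * g⁻¹ = (emb φ y)⁻¹ * (u * z * u⁻¹) * emb φ y := by rw [hu]; group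
      _ = (emb φ y)⁻¹ * (z * emb φ y) := by rw [h]; group
      _ = z := by rw [← hc]; group
  have signs_comm : ∀ d e : golayCode, signEl d * signEl e = signEl e * signEl d := fun d e => by
    rw [← signEl_add, ← signEl_add, add_comm]
  let E : Subgroup G :=
    { carrier := Set.range fun e => emb φ (signEl e)
      one_mem' := ⟨0, by
        show emb φ (signEl 0) = 1
        have h0 := signEl_sq (0 : golayCode)
        rw [← signEl_add, add_zero] at h0
        rw [h0, map_one]⟩
      mul_mem' := by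
        rintro _ _ ⟨a, rfl⟩ ⟨b, rfl⟩
        exact ⟨a + b, by simp only [signEl_add, map_mul]⟩
      inv_mem' := by
        rintro _ ⟨a, rfl⟩
        exact ⟨a, (inv_eq_of_mul_eq_one_right (by rw [← map_mul, signEl_sq, map_one])).symm⟩ }
  have hEmem : ∀ {f}, f ∈ E ↔ ∃ e, emb φ (signEl e) = f := Iff.rfl
  have hεinj : Function.Injective fun e => emb φ (signEl e) :=
    (emb_injective φ).comp signEl_injective
  have hEcard : Nat.card E = 4096 := by
    rw [← golayOK.card_code]
    exact (Nat.card_congr (Equiv.ofInjective _ hεinj)).symm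
  set F := E.map (MulAut.conj u⁻¹).toMonoidHom with hF
  have hFmem : ∀ f ∈ F, ∃ e, f = u⁻¹ * emb φ (signEl e) * u := by
    rintro f ⟨_, ⟨e, rfl⟩, rfl⟩
    exact ⟨e, by simp⟩
  have hFsq : ∀ f ∈ F, f * f = 1 := by
    intro f hf
    obtain ⟨e, rfl⟩ := hFmem f hf
    rw [show u⁻¹ * emb φ (signEl e) * u * (u⁻¹ * emb φ (signEl e) * u)
      = u⁻¹ * (emb φ (signEl e) * emb φ (signEl e)) * u by group, ← map_mul, signEl_sq, map_one]
    group
  have hFz : ∀ f ∈ F, f * z = z * f := by
    intro f hf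
    obtain ⟨e, rfl⟩ := hFmem f hf
    have h1 : emb φ (signEl e) * (u * z * u⁻¹) = u * z * u⁻¹ * emb φ (signEl e) := by
      rw [hut, ← map_mul, ← map_mul, signs_comm]
    calc u⁻¹ * emb φ (signEl e) * u * z = u⁻¹ * (emb φ (signEl e) * (u * z * u⁻¹)) * u := by group
      _ = u⁻¹ * (u * z * u⁻¹ * emb φ (signEl e)) * u := by rw [h1]
      _ = _ := by group
  obtain ⟨k, hkz, hk⟩ := to_monCent S hperf F hFsq hFz
  set F2 := F.map (MulAut.conj k).toMonoidHom with hF2
  have hF2card : Nat.card F2 = 4096 := by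
    rw [hF2, Subgroup.card_map_of_injective (MulAut.conj k).injective, hF,
      Subgroup.card_map_of_injective (MulAut.conj u⁻¹).injective, hEcard]
  have hsigns := le_signs S hperf F2 (by
    rintro _ ⟨f, hf, rfl⟩
    rw [← map_mul, hFsq f hf, map_one]) hF2card (by
    rintro _ ⟨f, hf, rfl⟩
    exact hk f hf)
  set h := k * u⁻¹ with hh
  have hnorm : ∀ e, ∃ e', h * emb φ (signEl e) * h⁻¹ = emb φ (signEl e') := by
    intro e
    obtain ⟨e', he'⟩ := hsigns _ (Subgroup.mem_map_of_mem _ (Subgroup.mem_map_of_mem _ (hEmem.mpr ⟨e, rfl⟩)))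
    refine ⟨e', ?_⟩
    rw [← he', hh]
    show k * u⁻¹ * emb φ (signEl e) * (k * u⁻¹)⁻¹ = k * (u⁻¹ * emb φ (signEl e) * u⁻¹⁻¹) * k⁻¹
    group
  -- the group induced on the words
  let L : Subgroup (Equiv.Perm golayCode) :=
    { carrier := {T | ∃ w : G, ∀ e, w * emb φ (signEl e) * w⁻¹ = emb φ (signEl (T e))}
      one_mem' := ⟨1, fun e => by simp⟩
      mul_mem' := by
        rintro T T' ⟨w, hw⟩ ⟨w', hw'⟩
        refine ⟨w * w', fun e => ?_⟩
        rw [Equiv.Perm.mul_apply, ← hw, ← hw']
        group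
      inv_mem' := by
        rintro T ⟨w, hw⟩
        refine ⟨w⁻¹, fun e => ?_⟩
        have he := hw (T⁻¹ e)
        rw [perm_apply_inv] at he
        rw [← he]
        group }
  have hlin : ∀ T ∈ L, ∀ a b, T (a + b) = T a + T b := by
    rintro T ⟨w, hw⟩ a b
    refine hεinj ?_
    show emb φ (signEl (T (a + b))) = emb φ (signEl (T a + T b))
    rw [← hw, signEl_add, signEl_add, map_mul, map_mul, ← hw, ← hw]
    group
  have hM : ∀ σ : M24, permC σ ∈ L := fun σ => ⟨emb φ (permHom σ), fun e => by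
    rw [← map_inv, ← map_mul, ← map_mul, signEl_conj]
    rfl⟩
  have hstab : ∀ T ∈ L, T oneWord = oneWord → ∃ σ : M24, T = permC σ := by
    rintro T ⟨w, hw⟩ hT
    have h1 := hw oneWord
    rw [hT, ← negOne_eq_signEl, mul_inv_eq_iff_eq_mul] at h1
    obtain ⟨a, ha, c, hc, rfl⟩ :=
      S.exists_decomp (fun g hg => inner_normalizer φ hperf hg) h1
    obtain ⟨m, rfl⟩ := exists_emb φ ha
    have hmd : ∀ e, m * signEl e * m⁻¹ = signEl (T e) := by
      intro e
      refine emb_injective φ ?_
      rw [map_mul, map_mul, map_inv, ← hw e]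
      have := (emb_comm φ hc (signEl e)).eq
      calc emb φ m * emb φ (signEl e) * (emb φ m)⁻¹
          = emb φ m * (emb φ (signEl e) * c) * c⁻¹ * (emb φ m)⁻¹ := by group
        _ = emb φ m * (c * emb φ (signEl e)) * c⁻¹ * (emb φ m)⁻¹ := by rw [this]
        _ = _ := by group
    obtain ⟨σ, hσ⟩ := mem_std_of_norm (x := m) fun e => by
      refine ⟨T⁻¹ e, ?_⟩
      have he := hmd (T⁻¹ e)
      rw [perm_apply_inv] at he
      rw [← he]
      group
    obtain ⟨e', hσ', hm⟩ := std_decomp hσ
    refine ⟨⟨σ, hσ'⟩, Equiv.ext fun e => signEl_injective ?_⟩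
    rw [← hmd e, hm, signEl_conj_std]
  choose T hT using hnorm
  have hTinj : Function.Injective T := by
    intro a b hab
    refine hεinj ?_
    have h1 : h * emb φ (signEl a) * h⁻¹ = h * emb φ (signEl b) * h⁻¹ := by rw [hT, hT, hab]
    exact mul_left_cancel (mul_right_cancel h1)
  let T' : Equiv.Perm golayCode := Equiv.ofBijective T (Finite.injective_iff_bijective.mp hTinj)
  have h1 := orbit_trivial L hlin hM hstab T' ⟨h, hT⟩
  have h2 : h * z * h⁻¹ = z := by
    rw [hz, negOne_eq_signEl, hT]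
    exact congrArg (fun e => emb φ (signEl e)) h1
  have h3 : h * z = z * h := mul_inv_eq_iff_eq_mul.mp h2
  have h4 : h⁻¹ * z = z * h⁻¹ := (Commute.inv_left (show Commute h z from h3)).eq
  calc u * z * u⁻¹ = u * (k⁻¹ * (k * z)) * u⁻¹ := by group
    _ = u * (k⁻¹ * (z * k)) * u⁻¹ := by rw [hkz]
    _ = h⁻¹ * z * h := by rw [hh]; group
    _ = z := by rw [h4]; group

end

/-- **The component is normal.** -/
theorem main {G : Type*} [Group G] [Finite G] (hO : Cfsg.oddCore G = ⊥) (A : Subgroup G)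
    (hA : Cfsg.IsStandardSubgroup A) (hAX : Nonempty (↥A ≃* ↥Cfsg.Co0))
    (hR : ∀ R : Sylow 2 ↥(Subgroup.centralizer (A : Set G)),
      IsCyclic ↥(R : Subgroup ↥(Subgroup.centralizer (A : Set G)))) : A.Normal := by
  obtain ⟨φ⟩ := hAX
  have : Fact (Nat.Prime 2) := ⟨Nat.prime_two⟩
  have : Group.IsPerfect ↥A := hA.1.1
  have hperf' : Group.IsPerfect ↥Co0 :=
    Group.IsPerfect.ofSurjective (f := φ.toMonoidHom) φ.surjective
  have hperf : commutator Co0 = ⊤ := Group.isPerfect_def.mp hperf'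
  have S : StdCyclic.Setup A (emb φ negOne) :=
    { std := hA
      cyc := hR
      mem := emb_mem φ _
      central := fun a ha => by
        obtain ⟨x, rfl⟩ := exists_emb φ ha
        rw [← map_mul, ← map_mul, (Subgroup.mem_center_iff.mp negOne_mem_center x)]
      order := by
        rw [orderOf_injective _ (emb_injective φ)]
        exact orderOf_eq_prime (by rw [pow_two, negOne_sq']) negOne_ne_one }
  exact S.normal_of_fusion hO (fun g hg => inner_normalizer φ hperf hg)
    (fun x hx hc => centre_cases φ hx hc) (fusion S hperf)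

end H35.CoStd
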