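import Cfsg.Agent.H90.Involutions
import Cfsg.Agent.H95.LeechSym
import Cfsg.Agent.H90.Orbits

/-!
An elementary abelian 2-subgroup `K` of the code group fixes fewer than `4096 / |K|` words.
-/

set_option autoImplicit false

namespace H35.CoStd

open Cfsg Finset

/-- the words fixed by a permutation -/
def fixOf (σ : Equiv.Perm GolayPt) : AddSubgroup golayCode where
  carrier := {d | ∀ i, d.1 (σ i) = d.1 i}
  zero_mem' := fun _ => rfl
  add_mem' := fun {a b} ha hb i => by
    show a.1 (σ i) + b.1 (σ i) = a.1 i + b.1 i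
    rw [ha, hb]
  neg_mem' := fun {a} ha i => by
    show -a.1 (σ i) = -a.1 i
    rw [ha]

/-- the words fixed by a group of permutations -/
def fixWords (K : Subgroup M24) : AddSubgroup golayCode := ⨅ σ : K, fixOf σ.1.1

theorem mem_fixWords {K : Subgroup M24} {d : golayCode} :
    d ∈ fixWords K ↔ ∀ σ ∈ K, ∀ i, d.1 (σ.1 i) = d.1 i := by
  simp only [fixWords, AddSubgroup.mem_iInf, Subtype.forall]
  rfl

/-- indices of a basis of the words fixed by the representative fixing an octad -/
def genA : List ℕ := [15, 19, 32, 131, 256, 515, 1024, 2115]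

/-- indices of a basis of the words fixed by the free representative -/
def genB : List ℕ := [115, 188, 271, 575, 1036, 2060]

/-- the listed words are fixed and separate the orbits -/
def atomOK (p : ℕ) (gs : List ℕ) : Bool :=
  (gs.all fun n => decide (n < 4096) && Nat.beq (H90.permMask p (H90.encode n)) (H90.encode n)) &&
  (List.range 24).all fun i => (List.range 24).all fun j =>
    Nat.beq j i || Nat.beq j (H90.img p i) ||
      gs.any fun n => (H90.encode n).testBit i != (H90.encode n).testBit j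

theorem atomA : atomOK H90.invAN genA = true := by decide +kernel

theorem atomB : atomOK H90.invBN genB = true := by decide +kernel

theorem countA : ((Finset.range 4096).filter fun n =>
    Nat.beq (H90.permMask H90.invAN (H90.encode n)) (H90.encode n) = true).card = 256 := by
  decide +kernel

theorem countB : ((Finset.range 4096).filter fun n =>
    Nat.beq (H90.permMask H90.invBN (H90.encode n)) (H90.encode n) = true).card = 64 := by
  decide +kernel

theorem wordOf_permMask' {σ : Equiv.Perm GolayPt} {p : ℕ} (h : H90.Repr σ p) (m : ℕ) (i : GolayPt) :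
    H90.wordOf (H90.permMask p m) (σ i) = H90.wordOf m i := by
  have e : σ i ∈ H90.setOf' (H90.permMask p m) ↔ i ∈ H90.setOf' m := by
    rw [H90.setOf'_permMask h, Finset.mem_image]
    exact ⟨fun ⟨j, hj, hji⟩ => σ.injective hji ▸ hj, fun h' => ⟨i, h', rfl⟩⟩
  simp only [H90.mem_setOf'] at e
  simp only [H90.wordOf, e]

theorem mem_fixOf_repr {ρ : Equiv.Perm GolayPt} {p : ℕ} (hr : H90.Repr ρ p) {n : ℕ} (hn : n < 4096) :
    (⟨_, H90.wordOf_encode_mem n⟩ : golayCode) ∈ fixOf ρ ↔
      Nat.beq (H90.permMask p (H90.encode n)) (H90.encode n) = true := by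
  rw [Nat.beq_eq]
  constructor
  · intro h
    refine H90.wordOf_injOn (H90.permMask_lt hr _) (H90.encode_lt hn) (funext fun i => ?_)
    obtain ⟨j, rfl⟩ := ρ.surjective i
    rw [wordOf_permMask' hr]
    exact (h j).symm
  · intro h i
    show H90.wordOf (H90.encode n) (ρ i) = H90.wordOf (H90.encode n) i
    conv_lhs => rw [← h]
    exact wordOf_permMask' hr _ _

theorem card_fixOf_repr {ρ : Equiv.Perm GolayPt} {p : ℕ} (hr : H90.Repr ρ p) :
    Nat.card (fixOf ρ) = ((Finset.range 4096).filter fun n =>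
      Nat.beq (H90.permMask p (H90.encode n)) (H90.encode n) = true).card := by
  set S := (Finset.range 4096).filter fun n =>
      Nat.beq (H90.permMask p (H90.encode n)) (H90.encode n) = true with hS
  have hmem : ∀ n, n ∈ S ↔ n < 4096 ∧
      Nat.beq (H90.permMask p (H90.encode n)) (H90.encode n) = true := fun n => by
    rw [hS, Finset.mem_filter, Finset.mem_range]
  rw [← Nat.card_eq_finsetCard]
  refine (Nat.card_eq_of_bijective (fun n : S => (⟨⟨_, H90.wordOf_encode_mem n.1⟩,
    (mem_fixOf_repr hr ((hmem _).mp n.2).1).mpr ((hmem _).mp n.2).2⟩ : fixOf ρ)) ⟨?_, ?_⟩).symm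
  · intro a b h
    refine Subtype.ext (H90.encode_injOn ((hmem _).mp a.2).1 ((hmem _).mp b.2).1 ?_)
    exact H90.wordOf_injOn (H90.encode_lt ((hmem _).mp a.2).1) (H90.encode_lt ((hmem _).mp b.2).1)
      (congrArg (fun d : fixOf ρ => d.1.1) h)
  · rintro ⟨⟨w, hw⟩, hd⟩
    obtain ⟨n, hn, rfl⟩ := H90.mem_golayCode_iff.mp hw
    exact ⟨⟨n, (hmem n).mpr ⟨hn, (mem_fixOf_repr hr hn).mp hd⟩⟩, rfl⟩

theorem atom_repr {ρ x : Equiv.Perm GolayPt} {p : ℕ} {gs : List ℕ} (hr : H90.Repr ρ p)
    (hok : atomOK p gs = true) (h : fixOf ρ ≤ fixOf x) (i : GolayPt) : x i = i ∨ x i = ρ i := by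
  simp only [atomOK, Bool.and_eq_true, List.all_eq_true, List.mem_range, decide_eq_true_eq,
    Bool.or_eq_true, List.any_eq_true, bne_iff_ne] at hok
  rcases hok.2 (H90.idx i).val (H90.idx i).isLt (H90.idx (x i)).val (H90.idx (x i)).isLt with
    (e | e) | ⟨n, hn, e⟩
  · exact Or.inl (H90.idx_injective (Fin.ext (Nat.eq_of_beq_eq_true e)))
  · refine Or.inr (H90.idx_injective (Fin.ext ((Nat.eq_of_beq_eq_true e).trans ?_)))
    exact (hr.apply i).symm
  · exfalso
    obtain ⟨hn4, hfix⟩ := hok.1 n hn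
    have := h ((mem_fixOf_repr hr hn4).mpr hfix) i
    simp only [H90.wordOf] at this
    revert this e
    cases (H90.encode n).testBit (H90.idx i).val <;>
      cases (H90.encode n).testBit (H90.idx (x i)).val <;> decide

theorem mem_fixOf_conj {k ρ : Equiv.Perm GolayPt} (hk : k ∈ M24) {d : golayCode} :
    d ∈ fixOf (k * ρ * k⁻¹) ↔ (⟨fun i => d.1 (k i), H95.perm_mem_code hk d.2⟩ : golayCode) ∈ fixOf ρ := by
  constructor
  · intro h i
    have := h (k i)
    simpa using this
  · intro h i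
    have := h (k⁻¹ i)
    simpa using this

theorem card_fixOf_conj {k ρ : Equiv.Perm GolayPt} (hk : k ∈ M24) :
    Nat.card (fixOf (k * ρ * k⁻¹)) = Nat.card (fixOf ρ) := by
  refine Nat.card_congr
    ⟨fun d => ⟨_, (mem_fixOf_conj hk).mp d.2⟩,
      fun d => ⟨⟨fun i => d.1.1 (k.symm i), H95.perm_symm_mem_code hk d.1.2⟩,
        (mem_fixOf_conj hk).mpr (fun i => by simpa using d.2 i)⟩,
      fun d => by
        refine Subtype.ext (Subtype.ext (funext fun i => ?_))
        show d.1.1 (k (k.symm i)) = _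
        rw [Equiv.apply_symm_apply],
      fun d => by
        refine Subtype.ext (Subtype.ext (funext fun i => ?_))
        show d.1.1 (k.symm (k i)) = _
        rw [Equiv.symm_apply_apply]⟩

/-- the fixed points -/
def fixPts (σ : Equiv.Perm GolayPt) : Finset GolayPt := Finset.univ.filter fun p => σ p = p

theorem mem_fixPts {σ : Equiv.Perm GolayPt} {p : GolayPt} : p ∈ fixPts σ ↔ σ p = p := by
  simp [fixPts]

theorem involution_facts {σ : M24} (h : σ * σ = 1) (h1 : σ ≠ 1) :
    ((fixPts σ.1).card = 8 ∧ Nat.card (fixOf σ.1) = 256 ∨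
      fixPts σ.1 = ∅ ∧ Nat.card (fixOf σ.1) = 64) ∧
      ∀ x : M24, fixOf σ.1 ≤ fixOf x.1 → ∀ i, x.1 i = i ∨ x.1 i = σ.1 i := by
  have : Fact (Nat.Prime 2) := ⟨Nat.prime_two⟩
  have ho : orderOf σ.1 = 2 := by
    refine orderOf_eq_prime ?_ fun e => h1 (Subtype.ext e)
    rw [pow_two]; exact congrArg Subtype.val h
  obtain ⟨k, hk, ρ, hρ, he, hc⟩ := H90.involution_class σ.2 ho
  have hatom : ∀ p gs, H90.Repr ρ p → atomOK p gs = true →
      ∀ x : M24, fixOf σ.1 ≤ fixOf x.1 → ∀ i, x.1 i = i ∨ x.1 i = σ.1 i := by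
    intro p gs hr hok x hx i
    have hle : fixOf ρ ≤ fixOf (k⁻¹ * x.1 * k) := by
      intro d hd j
      have := hx (show (⟨fun i => d.1 (k.symm i), H95.perm_symm_mem_code hk d.2⟩ : golayCode)
          ∈ fixOf σ.1 by
        rw [← he, mem_fixOf_conj hk]
        intro j; simpa using hd j) (k j)
      simpa using this
    rcases atom_repr hr hok hle (k⁻¹ i) with e | e
    · exact Or.inl (by simpa using e)
    · refine Or.inr ?_
      have := congrArg k e
      rw [← he]
      simpa using this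
  rcases hc with ⟨hr, ho8⟩ | ⟨hr, hfree⟩
  · refine ⟨Or.inl ⟨H90.card_of_mem_wordsOfWeight ho8, ?_⟩, hatom _ _ hr atomA⟩
    rw [← he, card_fixOf_conj hk, card_fixOf_repr hr, countA]
  · refine ⟨Or.inr ⟨Finset.filter_false_of_mem fun p _ => hfree p, ?_⟩, hatom _ _ hr atomB⟩
    rw [← he, card_fixOf_conj hk, card_fixOf_repr hr, countB]

theorem fixPts_card_le {σ : M24} (h : σ * σ = 1) (h1 : σ ≠ 1) : (fixPts σ.1).card ≤ 8 := by
  rcases (involution_facts h h1).1 with ⟨e, -⟩ | ⟨e, -⟩ <;> simp [e]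

theorem eq_of_fixOf_le {σ x : M24} (hσ : σ * σ = 1) (hσ1 : σ ≠ 1) (hx : x * x = 1) (hx1 : x ≠ 1)
    (hc : σ * x = x * σ) (h : fixOf σ.1 ≤ fixOf x.1) : x = σ := by
  by_contra hne
  set y := x * σ with hy
  have hy2 : y * y = 1 := by
    calc y * y = x * (σ * x) * σ := by rw [hy]; group
      _ = x * (x * σ) * σ := by rw [hc]
      _ = (x * x) * (σ * σ) := by group
      _ = 1 := by rw [hx, hσ, one_mul]
  have hy1 : y ≠ 1 := fun e => hne (by
    have : x * σ * σ = σ := by rw [← hy, e, one_mul]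
    rwa [mul_assoc, hσ, mul_one] at this)
  have hcover : (Finset.univ : Finset GolayPt) ⊆ fixPts x.1 ∪ fixPts y.1 := by
    intro i _
    rw [Finset.mem_union, mem_fixPts, mem_fixPts]
    rcases (involution_facts hσ hσ1).2 x h i with e | e
    · exact Or.inl e
    · refine Or.inr ?_
      show x.1 (σ.1 i) = i
      rw [← e]
      exact DFunLike.congr_fun (congrArg Subtype.val hx) i
  have h24 := (Finset.card_le_card hcover).trans (Finset.card_union_le _ _)
  rw [Finset.card_univ, H90.card_golayPt] at h24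
  have := fixPts_card_le hx hx1
  have := fixPts_card_le hy2 hy1
  omega

theorem dvd_sixteen (K : Subgroup M24) (hA : ∀ σ ∈ K, σ ≠ 1 → (fixPts σ.1).card = 8) :
    Nat.card K ∣ 16 := by
  classical
  have : Fintype K := Fintype.ofFinite K
  have key := MulAction.sum_card_fixedBy_eq_card_orbits_mul_card_group K GolayPt
  have hterm : ∀ a : K, Fintype.card (MulAction.fixedBy GolayPt a) = if a = 1 then 24 else 8 := by
    intro a
    have e : Fintype.card (MulAction.fixedBy GolayPt a) = (fixPts a.1.1).card := by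
      rw [fixPts, ← Fintype.card_subtype]
      exact Fintype.card_congr (Equiv.subtypeEquivRight fun p => Iff.rfl)
    rw [e]
    split
    · next h =>
      subst h
      rw [fixPts, show (Finset.univ.filter fun p : GolayPt => ((1 : K).1.1) p = p) = Finset.univ from
        Finset.filter_true_of_mem fun p _ => rfl, Finset.card_univ, H90.card_golayPt]
    · next h => exact hA _ a.2 fun e => h (Subtype.ext e)
  have hsum : ∑ a : K, (if a = 1 then 24 else 8) = 16 + 8 * Fintype.card K := by
    rw [Finset.sum_eq_add_sum_sdiff_singleton_of_mem (Finset.mem_univ (1 : K)), if_pos rfl,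
      Finset.sum_congr rfl (g := fun _ => 8) (fun a ha => if_neg (by
        simpa [Finset.mem_sdiff] using ha)),
      Finset.sum_const, smul_eq_mul, Finset.card_sdiff_of_subset (Finset.subset_univ _),
      Finset.card_singleton, Finset.card_univ]
    have : 1 ≤ Fintype.card K := Fintype.card_pos
    omega
  simp only [hterm, hsum, ← Nat.card_eq_fintype_card] at key
  have h1 : Nat.card K ∣ 8 * Nat.card K := Dvd.intro_left _ rfl
  exact (Nat.dvd_add_iff_left h1).mpr (Dvd.intro_left _ key.symm)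

/-- the stabiliser of a point in `K` -/
def stabPt (K : Subgroup M24) (x : GolayPt) : Subgroup M24 :=
  K ⊓ MulAction.stabilizer M24 x

theorem natCard_stabPt (K : Subgroup M24) (x : GolayPt) :
    Nat.card (MulAction.orbit K x) * Nat.card (stabPt K x) = Nat.card K := by
  have e : Nat.card (stabPt K x) = Nat.card (MulAction.stabilizer K x) :=
    Nat.card_congr
      { toFun := fun a => ⟨⟨a.1, a.2.1⟩, a.2.2⟩
        invFun := fun a => ⟨a.1.1, a.1.2, a.2⟩
        left_inv := fun _ => rfl
        right_inv := fun _ => rfl }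
  rw [e, Nat.card_congr (MulAction.orbitEquivQuotientStabilizer K x)]
  exact (Subgroup.card_eq_card_quotient_mul_card_subgroup _).symm

theorem orbit_subset_fix (K : Subgroup M24) (hK : ∀ σ ∈ K, σ * σ = 1) {x : GolayPt} {σ : M24}
    (hσ : σ ∈ stabPt K x) : MulAction.orbit K x ⊆ ↑(fixPts σ.1) := by
  rintro _ ⟨τ, rfl⟩
  rw [Finset.mem_coe, mem_fixPts]
  have hc : σ * τ.1 = τ.1 * σ := by
    have h1 := hK _ (K.mul_mem hσ.1 τ.2)
    calc σ * τ.1 = (σ * τ.1)⁻¹ := (inv_eq_of_mul_eq_one_right h1).symm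
      _ = τ.1 * σ := by
        rw [mul_inv_rev, inv_eq_of_mul_eq_one_right (hK _ τ.2), inv_eq_of_mul_eq_one_right (hK _ hσ.1)]
  show σ.1 (τ.1.1 x) = τ.1.1 x
  have := DFunLike.congr_fun (congrArg Subtype.val hc) x
  simp only [Subgroup.coe_mul, Equiv.Perm.mul_apply] at this
  rw [this]
  exact congrArg τ.1.1 hσ.2

theorem natCard_le (K : Subgroup M24) (hK : ∀ σ ∈ K, σ * σ = 1) : Nat.card K ≤ 64 := by
  classical
  have : Fact (Nat.Prime 2) := ⟨Nat.prime_two⟩
  have hcomm : ∀ a ∈ K, ∀ b ∈ K, a * b = b * a := fun a ha b hb => by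
    calc a * b = (a * b)⁻¹ := (inv_eq_of_mul_eq_one_right (hK _ (K.mul_mem ha hb))).symm
      _ = b * a := by
        rw [mul_inv_rev, inv_eq_of_mul_eq_one_right (hK _ hb), inv_eq_of_mul_eq_one_right (hK _ ha)]
  have hstab : ∀ x, Nat.card (stabPt K x) ∣ 16 := fun x => dvd_sixteen _ fun σ hσ h1 => by
    rcases (involution_facts (hK _ hσ.1) h1).1 with ⟨e, -⟩ | ⟨e, -⟩
    · exact e
    · exact absurd (mem_fixPts.mpr hσ.2) (e ▸ Finset.notMem_empty x)
  have horb : ∀ x, Nat.card (stabPt K x) = 1 ∧ Nat.card (MulAction.orbit K x) ≤ 24 ∨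
      Nat.card (MulAction.orbit K x) ≤ 8 := by
    intro x
    by_cases hb : stabPt K x = ⊥
    · refine Or.inl ⟨by rw [hb, Subgroup.card_bot], ?_⟩
      refine (Nat.card_le_card_of_injective _ Subtype.val_injective).trans (le_of_eq ?_)
      rw [Nat.card_eq_fintype_card, H90.card_golayPt]
    · obtain ⟨σ, hσ, h1⟩ := (Subgroup.bot_or_exists_ne_one _).resolve_left hb
      refine Or.inr ?_
      rw [Nat.card_coe_set_eq]
      refine (Set.ncard_le_ncard (orbit_subset_fix K hK hσ) (Finset.finite_toSet _)).trans ?_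
      rw [Set.ncard_coe_finset]
      exact fixPts_card_le (hK _ hσ.1) h1
  have hbound : ∀ x, Nat.card K ≤ 128 ∧
      (64 < Nat.card K → Nat.card (MulAction.orbit K x) ≤ 8 ∧ Nat.card (stabPt K x) ≤ 16) := by
    intro x
    have h := natCard_stabPt K x
    have h16 := Nat.le_of_dvd (by norm_num) (hstab x)
    rcases horb x with ⟨e, e'⟩ | e
    · rw [e, mul_one] at h
      exact ⟨by omega, fun _ => by omega⟩
    · exact ⟨by rw [← h]; exact (Nat.mul_le_mul e h16).trans (by norm_num), fun _ => ⟨e, h16⟩⟩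
  by_contra hlt
  rw [not_le] at hlt
  obtain ⟨n, hn⟩ := IsPGroup.iff_card.mp (show IsPGroup 2 K from fun a =>
    ⟨1, Subtype.ext (by rw [pow_one, pow_two]; exact hK _ a.2)⟩)
  have h128 : Nat.card K = 128 := by
    have h7 : n = 7 := by
      have := (hbound none).1
      rw [hn] at this hlt
      rcases Nat.lt_or_ge n 7 with h | h
      · have : 2 ^ n ≤ 2 ^ 6 := Nat.pow_le_pow_right (by norm_num) (by omega)
        omega
      · by_contra h'
        have : 2 ^ 8 ≤ 2 ^ n := Nat.pow_le_pow_right (by norm_num) (by omega)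
        omega
    rw [hn, h7]; norm_num
  have hexact : ∀ x, Nat.card (MulAction.orbit K x) = 8 ∧ Nat.card (stabPt K x) = 16 := by
    intro x
    obtain ⟨h1, h2⟩ := (hbound x).2 hlt
    have h := natCard_stabPt K x
    rw [h128] at h
    constructor <;> nlinarith
  obtain ⟨y, hy⟩ : ∃ y, y ∉ MulAction.orbit K (none : GolayPt) := by
    by_contra hall
    simp only [not_exists, not_not] at hall
    have h8 := (hexact none).1
    rw [Nat.card_coe_set_eq, Set.eq_univ_of_forall hall, Set.ncard_univ, Nat.card_eq_fintype_card,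
      H90.card_golayPt] at h8
    omega
  have hinj : Function.Injective
      (fun p : stabPt K none × stabPt K y => (⟨p.1.1 * p.2.1, K.mul_mem p.1.2.1 p.2.2.1⟩ : K)) := by
    rintro ⟨a, b⟩ ⟨a', b'⟩ h
    have h0 : a.1 * b.1 = a'.1 * b'.1 := congrArg Subtype.val h
    have h1 : a'.1⁻¹ * a.1 = b'.1 * b.1⁻¹ := by
      rw [inv_mul_eq_iff_eq_mul, ← mul_assoc, ← h0, mul_inv_cancel_right]
    have h2 : a'.1⁻¹ * a.1 = 1 := by
      by_contra hne
      have hs : a'.1⁻¹ * a.1 ∈ stabPt K none :=
        (stabPt K none).mul_mem ((stabPt K none).inv_mem a'.2) a.2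
      have ht : a'.1⁻¹ * a.1 ∈ stabPt K y :=
        h1 ▸ (stabPt K y).mul_mem b'.2 ((stabPt K y).inv_mem b.2)
      have hsub : insert y (MulAction.orbit K (none : GolayPt)) ⊆ ↑(fixPts (a'.1⁻¹ * a.1).1) :=
        Set.insert_subset (by rw [Finset.mem_coe, mem_fixPts]; exact ht.2)
          (orbit_subset_fix K hK hs)
      have := Set.ncard_le_ncard hsub (Finset.finite_toSet _)
      rw [Set.ncard_insert_of_notMem hy (Set.toFinite _), ← Nat.card_coe_set_eq, (hexact none).1,
        Set.ncard_coe_finset] at this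
      have := fixPts_card_le (hK _ hs.1) hne
      omega
    obtain rfl : a = a' := Subtype.ext (inv_mul_eq_one.mp h2).symm
    obtain rfl : b = b' := Subtype.ext (mul_left_cancel h0)
    rfl
  have := Nat.card_le_card_of_injective _ hinj
  rw [Nat.card_prod, (hexact none).2, (hexact y).2, h128] at this
  omega

/-- **The key bound.** -/
theorem card_mul_fixWords_lt (K : Subgroup M24) (hK : ∀ σ ∈ K, σ * σ = 1) (hne : K ≠ ⊥) :
    Nat.card K * Nat.card (fixWords K) < 4096 := by
  classical
  have : Fact (Nat.Prime 2) := ⟨Nat.prime_two⟩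
  obtain ⟨r, hr⟩ := IsPGroup.iff_card.mp (show IsPGroup 2 K from fun a =>
    ⟨1, Subtype.ext (by rw [pow_one, pow_two]; exact hK _ a.2)⟩)
  have hr1 : 1 < Nat.card K := (Subgroup.one_lt_card_iff_ne_bot _).mpr hne
  have hr6 := natCard_le K hK
  rw [hr] at hr1 hr6
  have hr' : r ≤ 6 := (Nat.pow_le_pow_iff_right one_lt_two).mp hr6
  have hr'' : 1 ≤ r := Nat.one_le_iff_ne_zero.mpr fun e => by rw [e] at hr1; norm_num at hr1
  have hle : ∀ σ ∈ K, fixWords K ≤ fixOf σ.1 := fun σ hσ d hd => mem_fixWords.mp hd σ hσ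
  have hhalf : ∀ σ ∈ K, σ ≠ 1 → 2 < Nat.card K →
      2 * Nat.card (fixWords K) ≤ Nat.card (fixOf σ.1) := by
    intro σ hσ h1 hbig
    obtain ⟨τ, hτ, hτ'⟩ : ∃ τ ∈ K, τ ∉ ({1, σ} : Set M24) := by
      by_contra hall
      simp only [not_exists, not_and, not_not] at hall
      have := Set.ncard_le_ncard (t := ({1, σ} : Set M24)) (fun x (hx : x ∈ (K : Set M24)) => hall x hx)
        (Set.toFinite _)
      rw [← Nat.card_coe_set_eq, Set.ncard_pair (Ne.symm h1)] at this
      change Nat.card K ≤ 2 at this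
      omega
    simp only [Set.mem_insert_iff, Set.mem_singleton_iff, not_or] at hτ'
    have hdvd := AddSubgroup.card_dvd_of_le (hle σ hσ)
    obtain ⟨c, hc⟩ := hdvd
    rcases Nat.lt_or_ge c 2 with hc2 | hc2
    · exfalso
      have heq : fixWords K = fixOf σ.1 := AddSubgroup.eq_of_le_of_card_ge (hle σ hσ)
        (by interval_cases c <;> omega)
      have hcomm : σ * τ = τ * σ := by
        calc σ * τ = (σ * τ)⁻¹ := (inv_eq_of_mul_eq_one_right (hK _ (K.mul_mem hσ hτ))).symm
          _ = τ * σ := by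
            rw [mul_inv_rev, inv_eq_of_mul_eq_one_right (hK _ hτ), inv_eq_of_mul_eq_one_right (hK _ hσ)]
      exact hτ'.2 (eq_of_fixOf_le (hK _ hσ) h1 (hK _ hτ) hτ'.1 hcomm (heq ▸ hle τ hτ))
    · rw [hc, Nat.mul_comm 2]
      exact Nat.mul_le_mul_left _ hc2
  obtain ⟨σ, hσ, h1⟩ := (Subgroup.bot_or_exists_ne_one _).resolve_left hne
  have h256 : Nat.card (fixOf σ.1) ≤ 256 := by
    rcases (involution_facts (hK _ hσ) h1).1 with ⟨-, e⟩ | ⟨-, e⟩ <;> omega
  have hF := AddSubgroup.card_le_of_le (hle σ hσ)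
  by_cases hr5 : 5 ≤ r
  · obtain ⟨τ, hτ, hτ1, hτf⟩ : ∃ τ ∈ K, τ ≠ 1 ∧ Nat.card (fixOf τ.1) = 64 := by
      by_contra hall
      have h16 := Nat.le_of_dvd (by norm_num) (dvd_sixteen K fun τ hτ hτ1 => by
        rcases (involution_facts (hK _ hτ) hτ1).1 with ⟨e, -⟩ | ⟨-, e⟩
        · exact e
        · exact absurd ⟨τ, hτ, hτ1, e⟩ hall)
      have : 2 ^ 5 ≤ 2 ^ r := Nat.pow_le_pow_right (by norm_num) hr5
      omega
    have := hhalf τ hτ hτ1 (by rw [hr]; calc 2 < 2 ^ 5 := by norm_num
                                          _ ≤ 2 ^ r := Nat.pow_le_pow_right (by norm_num) hr5)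
    calc Nat.card K * Nat.card (fixWords K) ≤ 64 * 32 := Nat.mul_le_mul (hr ▸ hr6) (by omega)
      _ < 4096 := by norm_num
  · interval_cases r
    · rw [hr]; omega
    all_goals
      have := hhalf σ hσ h1 (by rw [hr]; norm_num)
      rw [hr]
      omega

end H35.CoStd
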